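import Cfsg.Agent.LES.Struct

/-! The case `Q_z = O₂(C(z))`: `LE.of_core`, `core_conj`, `core_sym`, singular subgroups (`Sing`). -/

set_option autoImplicit false
set_option linter.unusedSectionVars false
set_option linter.unusedVariables false

namespace Cfsg.Agent.LES

open Subgroup Cfsg.Agent.BG Cfsg.Agent.Invol Cfsg.Agent.Sig
open scoped _root_.Classical

variable {G : Type*} [Group G] [Finite G] {Q U : Subgroup G} {z s x y g u : G}

theorem core_conj (g z : G) : pcIn 2 C1[g * z * g⁻¹] = cj g (pcIn 2 C1[z]) := by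
  rw [C1_conj]; exact (cj_pcIn g).symm

theorem LE.of_core (hz : orderOf z = 2) (hE : IsExtraspecial 2 (pcIn 2 C1[z]))
    (hC : C[pcIn 2 C1[z]] ≤ pcIn 2 C1[z]) : LE (pcIn 2 C1[z]) z := by
  have zQ := hC (le_cent1_iff.1 pcIn_le)
  have e := ES.of_mem hE zQ (ne_one_of hz) pcIn_le
  exact ⟨e, fun x hx => e.cen x (hC fun y hy => (hx y hy).eq.symm) hx,
    fun x hx => le_normalizer_pcIn le_normalizer (mem_centralizer_singleton.2 hx)⟩

theorem comm_of_sq {c : G} (ho : Odd (orderOf c)) (h : Commute (c * c) s) : Commute c s := by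
  obtain ⟨k, hk⟩ := exists_sq_pow_eq_of_odd ho
  exact hk ▸ h.pow_left k

theorem LE.pg_cent (h : LE Q z) (hs : s ∈ Q) (s2 : s * s = 1) (h1 : s ≠ 1) (h2 : s ≠ z)
    (ab : ∀ a ∈ Q, ∀ b ∈ Q, Commute a s → Commute b s → Commute a b) : IsPGroup 2 C1[z] := by
  have A : ∀ a ∈ Q, Commute a s → a = 1 ∨ a = z ∨ a = s ∨ a = s * z := fun a ha c =>
    h.perp1 hs ha fun y hy e => ab y hy a ha e c
  have k1 : ∀ c, Commute c z → Odd (orderOf c) → Commute (c * s * c⁻¹) s → Commute c s := fun c cz ho k => by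
    rcases A _ (h.conj_mem cz hs) k with e | e | e | e
    · exact absurd (by simpa using e) h1
    · exact absurd (by simpa using e.trans (cj_eq_iff_comm.2 cz).symm) h2
    · exact cj_eq_iff_comm.1 e
    · refine comm_of_sq ho (cj_eq_iff_comm.1 ?_)
      calc c * c * s * (c * c)⁻¹ = c * (c * s * c⁻¹) * c⁻¹ := by group
        _ = c * s * c⁻¹ * (c * z * c⁻¹) := by rw [congrArg (fun t => c * t * c⁻¹) e]; group
        _ = s := by rw [e, cj_eq_iff_comm.2 cz, mul_self_cancel' h.zz]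
  have k2 : ∀ c, Commute c z → Odd (orderOf c) → c = 1 := fun c cz ho => by
    have cs : Commute c s := by
      by_contra hn
      have n1 : ¬ Commute (c * s * c⁻¹) s := fun k => hn (k1 c cz ho k)
      have m1 := h.conj_mem cz hs
      have m2 := h.conj_mem (cz.mul_left cz) hs
      have n2 : ¬ Commute (c * c * s * (c * c)⁻¹) s := fun k =>
        hn (comm_of_sq ho (k1 _ (cz.mul_left cz) (pow_two c ▸ odd_orderOf_pow ho 2) k))
      have n3 : ¬ Commute (c * s * c⁻¹) (c * c * s * (c * c)⁻¹) := fun k =>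
        n1 (by simpa [mul_assoc] using (k.map (MulAut.conj c⁻¹)).symm)
      have q1 : c * s * c⁻¹ * (c * s * c⁻¹) = 1 := by simp [mul_assoc, mul_self_cancel s2]
      have q2 : c * c * s * (c * c)⁻¹ * (c * c * s * (c * c)⁻¹) = 1 := by simp [mul_assoc, mul_self_cancel s2]
      set t := c * s * c⁻¹
      set t' := c * c * s * (c * c)⁻¹
      rcases A _ (mul_mem (inv_mem m1) m2) (h.comm_of_iff m1 m2 hs (iff_of_false n1 n2)) with e | e | e | e <;>
        rw [inv_mul_eq_iff_eq_mul] at e <;> rw [e] at n3 q2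
      · exact n3 (by simp)
      · exact n3 ((Commute.refl t).mul_right (h.zc t m1))
      · exact n1 (commute_of_mul_sq q1 s2 q2)
      · rw [← mul_assoc t s z, (h.zc _ (mul_mem m1 hs)).symm.mul_mul_mul_comm, h.zz, mul_one] at q2
        exact n1 (commute_of_mul_sq q1 s2 q2)
    have := h.cent_A hs s2 h1 h2 (x := c) fun y hy e => by
      rcases A y hy e with rfl | rfl | rfl | rfl
      exacts [Commute.one_left c, cz.symm, cs.symm, cs.symm.mul_left cz.symm]
    refine eq_one_of_odd_of_mul_self ho ?_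
    rcases this with rfl | rfl | rfl | rfl
    exacts [one_mul _, h.zz, s2, by rw [(h.zc s hs).symm.mul_mul_mul_comm, s2, h.zz, one_mul]]
  intro x
  obtain ⟨k, m, hm, e⟩ := Nat.exists_eq_two_pow_mul_odd (orderOf_pos x.1).ne'
  refine ⟨k, Subtype.ext (k2 _ ((mem_centralizer_singleton.1 x.2).pow_left _) ?_)⟩
  rw [Subgroup.coe_pow, orderOf_pow_of_dvd (by positivity) ⟨m, e⟩, e, Nat.mul_div_cancel_left _ (by positivity)]
  exact hm

theorem core_sym (h : LE (pcIn 2 C1[z]) z) (hs : g * z * g⁻¹ ∈ pcIn 2 C1[z]) : z ∈ pcIn 2 C1[g * z * g⁻¹] := by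
  by_cases e : g * z * g⁻¹ = z
  · rw [e]; exact h.zQ
  rw [core_conj]
  by_cases ab : ∀ a ∈ pcIn 2 C1[z], ∀ b ∈ pcIn 2 C1[z], Commute a (g * z * g⁻¹) → Commute b (g * z * g⁻¹) → Commute a b
  · rw [pcIn_eq_self (h.pg_cent hs (h.conj g).zz (h.conj g).z1 e ab), ← C1_conj]
    exact mem_centralizer_singleton.2 (h.zc _ hs).symm
  · push Not at ab
    obtain ⟨a, ha, b, hb, h1, h2, h3⟩ := ab
    exact h.sym' hs ha hb h1 h2 h3

theorem core_LE (h : LE (pcIn 2 C1[z]) z) (hu : ∃ g : G, g * z * g⁻¹ = u) : LE (pcIn 2 C1[u]) u := by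
  obtain ⟨g, rfl⟩ := hu
  rw [core_conj]; exact h.conj g

/-- A singular subgroup: all its non-trivial elements have large cores containing it. -/
structure Sing (U : Subgroup G) : Prop where
  le : ∀ u ∈ U, u ≠ 1 → LE (pcIn 2 C1[u]) u
  sub : ∀ u ∈ U, u ≠ 1 → U ≤ pcIn 2 C1[u]

theorem sing_of (h : LE (pcIn 2 C1[z]) z) (hS : ∀ u ∈ U, u ≠ 1 → ∃ g : G, g * z * g⁻¹ = u)
    (hO : ∀ u ∈ U, ∀ v ∈ U, u ≠ 1 → v ≠ 1 → v ∈ pcIn 2 C1[u]) : Sing U :=
  ⟨fun u hu u1 => core_LE h (hS u hu u1), fun u hu u1 v hv => by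
    by_cases v1 : v = 1
    exacts [v1 ▸ one_mem _, hO u hu v hv u1 v1]⟩

theorem Sing.L_le (h : Sing U) : ⨆ u ∈ (U : Set G) \ {1}, pcIn 2 C1[u] ≤
    commSub U (⨅ u ∈ (U : Set G) \ {1}, pcIn 2 C1[u] : Subgroup G) :=
  iSup₂_le fun u hu => (h.le u hu.1 hu.2).le_commSub hu.1 (h.sub u hu.1 hu.2)
    (show _ ≤ pcIn 2 C1[u] from iInf₂_le u hu)

end Cfsg.Agent.LES
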