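import Cfsg.Agent.LES.Basic
import Cfsg.Agent.Fischer.Small

/-! Two orthogonal conjugates `z`, `s` with extraspecial groups `Q`, `P` (`Pair`): the four-group `V`, the groups
`R = C_P(z) C_Q(s)` and `X = ⟨Q, P⟩`, `X/R ≅ S₃` (`Pair.exists_S3`), `Pair.norm_V`, `Pair.R_eq`, `commSub`. -/

set_option autoImplicit false
set_option linter.unusedSectionVars false
set_option linter.unusedVariables false

namespace Cfsg.Agent.LES

open Subgroup Cfsg.Agent.BG Cfsg.Agent.Invol Cfsg.Agent.PGrp Equiv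
open scoped _root_.Classical

variable {G : Type*} [Group G] [Finite G] {Q P A K : Subgroup G} {z s x y g : G}

/-- The elements normalizing `R` whose commutators with `T` lie in `R`. -/
def commSub (R : Subgroup G) (T : Set G) : Subgroup G where
  carrier := {x | x ∈ N[R] ∧ ∀ c ∈ T, x * c * x⁻¹ * c⁻¹ ∈ R}
  one_mem' := ⟨one_mem _, fun c _ => by simp⟩
  mul_mem' {a b} ha hb := ⟨mul_mem ha.1 hb.1, fun c hc => by
    have := mul_mem ((mem_normalizer_iff.1 ha.1 _).1 (hb.2 c hc)) (ha.2 c hc)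
    rwa [show a * (b * c * b⁻¹ * c⁻¹) * a⁻¹ * (a * c * a⁻¹ * c⁻¹) = a * b * c * (a * b)⁻¹ * c⁻¹ by group] at this⟩
  inv_mem' {a} ha := ⟨inv_mem ha.1, fun c hc => by
    have := (mem_normalizer_iff.1 (inv_mem ha.1) _).1 (inv_mem (ha.2 c hc))
    rwa [show a⁻¹ * (a * c * a⁻¹ * c⁻¹)⁻¹ * a⁻¹⁻¹ = a⁻¹ * c * a⁻¹⁻¹ * c⁻¹ by group] at this⟩

theorem ES.le_commSub (h : ES Q z) {U : Subgroup G} {T : Set G} (hz : z ∈ U) (hU : U ≤ Q) (hT : T ⊆ Q) :
    Q ≤ commSub U T := fun q hq => by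
  have k : ∀ c ∈ Q, q * c * q⁻¹ * c⁻¹ ∈ U := fun c hc => by
    rcases h.comm q hq c hc with e | e <;> rw [e]
    · simp
    · rw [(h.zc c hc).eq]; simpa using hz
  exact ⟨mem_norm_of_cj_le fun _ hu' => by
    obtain ⟨u, hu, rfl⟩ := mem_cj'.1 hu'
    simpa using mul_mem (k u (hU hu)) hu, fun c hc => k c (hT hc)⟩

theorem S3_two {N : Subgroup (Perm (Fin 3))} [hn : N.Normal] (h : IsPGroup 2 N) : N = ⊥ :=
  eq_bot_iff.2 fun σ hσ => by
    by_contra hne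
    obtain ⟨τ, ρ, e⟩ := Fischer.S3_normal_aux σ hne
    have m := mul_mem (hn.conj_mem _ hσ ρ) (hn.conj_mem _ (inv_mem hσ) τ)
    rw [e] at m
    have o : orderOf (swap (0 : Fin 3) 1 * swap 1 2) = 3 := orderOf_eq_prime (by decide) (by decide)
    exact absurd (eq_one_of_odd_of_mem_isPGroup h m (by rw [o]; decide)) (by decide)

theorem S3_center : ∀ σ : Perm (Fin 3), σ * swap 0 1 = swap 0 1 * σ → σ * swap 1 2 = swap 1 2 * σ → σ = 1 := by
  decide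

structure Pair (Q P : Subgroup G) (z s : G) : Prop where
  hQ : LE Q z
  sQ : s ∈ Q
  zP : z ∈ P
  ne : s ≠ z
  tr : ∃ g, g * z * g⁻¹ = s ∧ cj g Q = P

theorem LE.pair (h : LE Q z) (h8 : 8 < #Q) (hs : g * z * g⁻¹ ∈ Q) (hne : g * z * g⁻¹ ≠ z) :
    Pair Q (cj g Q) z (g * z * g⁻¹) := ⟨h, hs, h.sym h8 hs, hne, g, rfl, rfl⟩

namespace Pair

theorem hP (h : Pair Q P z s) : LE P s := by
  obtain ⟨g, rfl, rfl⟩ := h.tr; exact h.hQ.conj g

theorem symm (h : Pair Q P z s) : Pair P Q s z := by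
  refine ⟨h.hP, h.zP, h.sQ, h.ne.symm, ?_⟩
  obtain ⟨g, rfl, rfl⟩ := h.tr
  exact ⟨g⁻¹, by group, cj_inv_cj _ _⟩

theorem sz (h : Pair Q P z s) : Commute s z := h.hQ.zc s h.sQ

theorem exq (h : Pair Q P z s) : ∃ q ∈ Q, q * s * q⁻¹ = s * z := h.hQ.exists_conj h.sQ h.hP.z1 h.ne

theorem V_le (h : Pair Q P z s) : closure {z, s} ≤ Q := by
  rw [closure_le, Set.insert_subset_iff, Set.singleton_subset_iff]; exact ⟨h.hQ.zQ, h.sQ⟩

theorem mem_CV : x ∈ C[closure {z, s}] ↔ Commute x z ∧ Commute x s := by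
  rw [centralizer_closure]
  simp only [mem_centralizer_iff, Set.mem_insert_iff, Set.mem_singleton_iff, forall_eq_or_imp, forall_eq]
  exact ⟨fun h => ⟨h.1.symm, h.2.symm⟩, fun h => ⟨h.1.eq.symm, h.2.eq.symm⟩⟩

theorem zV : z ∈ closure ({z, s} : Set G) := subset_closure (by simp)
theorem sV : s ∈ closure ({z, s} : Set G) := subset_closure (by simp)

theorem mem_V (h : Pair Q P z s) : x ∈ closure ({z, s} : Set G) ↔ x = 1 ∨ x = z ∨ x = s ∨ x = s * z := by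
  refine ⟨fun hx => h.hQ.perp1 h.sQ (h.V_le hx) fun y hy c =>
    (mem_CV.2 ⟨h.hQ.zc y hy, c⟩ x hx).symm, ?_⟩
  rintro (rfl | rfl | rfl | rfl)
  exacts [one_mem _, zV, sV, mul_mem sV zV]

theorem V_comm : closure ({s, z} : Set G) = closure {z, s} := by rw [Set.pair_comm]

theorem Q_norm (h : Pair Q P z s) : Q ≤ N[closure {z, s}] := fun q hq =>
  (h.hQ.le_commSub (T := ∅) zV h.V_le (by simp) hq).1

theorem X_norm (h : Pair Q P z s) : Q ⊔ P ≤ N[closure {z, s}] :=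
  sup_le h.Q_norm (V_comm (s := s) (z := z) ▸ h.symm.Q_norm)

/-- `R = C_P(z) C_Q(s)`. -/
abbrev R (Q P : Subgroup G) (z s : G) : Subgroup G := (P ⊓ C1[z]) ⊔ (Q ⊓ C1[s])

theorem R_comm : R P Q s z = R Q P z s := sup_comm _ _

theorem R_le_C (h : Pair Q P z s) : R Q P z s ≤ C[closure {z, s}] :=
  sup_le (fun x hx => mem_CV.2 ⟨mem_centralizer_singleton.1 hx.2, h.hP.zc x hx.1⟩)
    fun x hx => mem_CV.2 ⟨h.hQ.zc x hx.1, mem_centralizer_singleton.1 hx.2⟩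

theorem R_le_X : R Q P z s ≤ Q ⊔ P := sup_le (inf_le_left.trans le_sup_right) (inf_le_left.trans le_sup_left)

theorem comm_Q (h : Pair Q P z s) {q c : G} (hq : q ∈ Q) (hc : c ∈ C[closure {z, s}]) :
    q * c * q⁻¹ * c⁻¹ ∈ Q ⊓ C1[s] := by
  refine ⟨by simpa [mul_assoc] using mul_mem hq (h.hQ.conj_mem (mem_CV.1 hc).1 (inv_mem hq)), ?_⟩
  have := mul_mem ((mem_normalizer_iff.1 (cent_norm _ (h.Q_norm hq)) c).1 hc) (inv_mem hc)
  exact mem_centralizer_singleton.2 (mem_CV.1 this).2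

theorem Q_commSub (h : Pair Q P z s) : Q ≤ commSub (R Q P z s) C[closure {z, s}] := fun q hq =>
  ⟨mem_norm_of_cj_le fun _ hu' => by
    obtain ⟨u, hu, rfl⟩ := mem_cj'.1 hu'
    simpa using mul_mem (mem_sup_right (h.comm_Q hq (h.R_le_C hu))) hu,
    fun c hc => mem_sup_right (h.comm_Q hq hc)⟩

theorem X_commSub (h : Pair Q P z s) : Q ⊔ P ≤ commSub (R Q P z s) C[closure {z, s}] :=
  sup_le h.Q_commSub (by have := h.symm.Q_commSub; rwa [R_comm, V_comm] at this)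

theorem R_normal (h : Pair Q P z s) : R Q P z s ⊴ Q ⊔ P := ⟨R_le_X, fun x hx => (h.X_commSub hx).1⟩

theorem R_pg (h : Pair Q P z s) : IsPGroup 2 (R Q P z s) := by
  have : Fact (Nat.Prime 2) := ⟨Nat.prime_two⟩
  refine IsPGroup.to_sup_of_normal_right' (h.hP.pg.to_le inf_le_left) (h.hQ.pg.to_le inf_le_left) fun x hx => ?_
  exact normsI (C := P ⊓ C1[z]) (fun y hy => h.hQ.nQ y (mem_centralizer_singleton.1 hy.2))
    (norms_cent1 fun y hy => mem_centralizer_singleton.2 (h.hP.zc y hy.1)) hx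

theorem mem_R_or (h : Pair Q P z s) {q : G} (hq : q ∈ Q) (e : q * s * q⁻¹ = s * z) (hx : x ∈ Q) :
    x ∈ R Q P z s ∨ q⁻¹ * x ∈ R Q P z s := by
  by_cases c : Commute x s
  · exact Or.inl (mem_sup_right ⟨hx, mem_centralizer_singleton.2 c⟩)
  · exact Or.inr (mem_sup_right ⟨Q.mul_mem (Q.inv_mem hq) hx, mem_centralizer_singleton.2
      (h.hQ.comm_of_iff hq hx h.sQ (iff_of_false (h.hQ.not_comm_of e) c))⟩)

theorem braid (h : Pair Q P z s) {q v : G} (hq : q ∈ Q) (e : q * s * q⁻¹ = s * z) (hv : v ∈ P)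
    (e' : v * z * v⁻¹ = z * s) : (q * v * q⁻¹)⁻¹ * (v * q * v⁻¹) ∈ R Q P z s := by
  obtain ⟨g, hg, hP⟩ := h.tr
  have e1 : cj v Q = cj q P := by
    rw [← hP, ← cj_mul]
    refine h.hQ.cj_eq ?_
    rw [e', ← h.sz.eq, ← e, ← hg]; group
  have m : q⁻¹ * (v * q * v⁻¹) * q ∈ P := mem_cj.1 (e1 ▸ conj_mem_cj v hq)
  have qz := cj_eq_iff_comm.2 (h.hQ.zc q hq)
  have n : ¬ Commute (q⁻¹ * (v * q * v⁻¹) * q) z := fun c => by
    have c1 : Commute (v * q * v⁻¹) z := by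
      have := ((h.hQ.zc q hq).mul_left c).mul_left (h.hQ.zc q hq).inv_left
      simpa [mul_assoc] using this
    have c2 : Commute q (v⁻¹ * z * v⁻¹⁻¹) := by simpa [mul_assoc] using c1.map (MulAut.conj v⁻¹)
    rw [h.hP.conj_of_not (inv_mem hv) h.zP fun c => h.hP.not_comm_of e' (by simpa using c.inv_left)] at c2
    exact h.hQ.not_comm_of e (by simpa using (h.hQ.zc q hq).inv_right.mul_right c2)
  have k : v⁻¹ * (q⁻¹ * (v * q * v⁻¹) * q) ∈ R Q P z s := mem_sup_left ⟨P.mul_mem (P.inv_mem hv) m,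
    mem_centralizer_singleton.2 (h.hP.comm_of_iff hv m h.zP (iff_of_false (h.hP.not_comm_of e') n))⟩
  have := (mem_normalizer_iff.1 (h.Q_commSub hq).1 _).1 k
  rwa [show q * (v⁻¹ * (q⁻¹ * (v * q * v⁻¹) * q)) * q⁻¹ = (q * v * q⁻¹)⁻¹ * (v * q * v⁻¹) by group] at this

theorem exists_S3 (h : Pair Q P z s) : ∃ ψ : ↥(Q ⊔ P) →* Perm (Fin 3), Function.Surjective ψ ∧
    ψ.ker = (R Q P z s).subgroupOf _ ∧ ∃ q v : ↥(Q ⊔ P), ψ q = swap 0 1 ∧ ψ v = swap 1 2 := by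
  have hn : ((R Q P z s).subgroupOf (Q ⊔ P)).Normal := (normal_subgroupOf_iff_le_normalizer R_le_X).2 h.R_normal.2
  obtain ⟨q, hq, e⟩ := h.exq
  obtain ⟨v, hv, e'⟩ := h.symm.exq
  let π := QuotientGroup.mk' ((R Q P z s).subgroupOf (Q ⊔ P))
  have hk : ∀ x, π x = 1 ↔ x.1 ∈ R Q P z s := fun x => QuotientGroup.eq_one_iff x
  let q' : ↥(Q ⊔ P) := ⟨q, mem_sup_left hq⟩
  let v' : ↥(Q ⊔ P) := ⟨v, mem_sup_right hv⟩
  have zR : z ∈ R Q P z s := mem_sup_right ⟨h.hQ.zQ, mem_centralizer_singleton.2 h.sz.symm⟩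
  have sR : s ∈ R Q P z s := mem_sup_left ⟨h.hP.zQ, mem_centralizer_singleton.2 h.sz⟩
  have a2 : π q' * π q' = 1 := by
    rw [← map_mul, hk]; rcases h.hQ.sq q hq with e | e <;> simp [q', e, zR]
  have b2 : π v' * π v' = 1 := by
    rw [← map_mul, hk]; rcases h.hP.sq v hv with e | e <;> simp [v', e, sR]
  have br : Fischer.Br (π q') (π v') := by
    have : π ((q' * v' * q'⁻¹)⁻¹ * (v' * q' * v'⁻¹)) = 1 := (hk _).2 (h.braid hq e hv e')
    rw [map_mul, map_inv, inv_mul_eq_one] at this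
    simpa [Fischer.Br, inv_eq_of_mul_self a2, inv_eq_of_mul_self b2] using this
  obtain ⟨φ, f1, f2⟩ := Fischer.hom_S3 a2 b2 br
  have inj : Function.Injective φ := Fischer.hom_S3_injective (by
    rw [f1, f2, Ne, ← inv_mul_eq_one, ← map_inv, ← map_mul, hk]
    intro m
    exact h.hP.not_comm_of e' (by simpa [q', v'] using (h.hQ.zc q hq).mul_left (mem_CV.1 (h.R_le_C m)).1))
  have sur : Function.Surjective φ := fun y => by
    obtain ⟨⟨x, hx⟩, rfl⟩ := QuotientGroup.mk'_surjective _ y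
    have : Q ⊔ P ≤ (φ.range.comap π).map (Q ⊔ P).subtype := sup_le (fun x hx => ⟨⟨x, mem_sup_left hx⟩, by
      rcases h.mem_R_or hq e hx with m | m
      · exact ⟨1, by rw [map_one, eq_comm, hk]; exact m⟩
      · exact ⟨swap 0 1, by rw [f1, ← inv_mul_eq_one, ← map_inv, ← map_mul, hk]; exact m⟩, rfl⟩)
      fun x hx => ⟨⟨x, mem_sup_right hx⟩, by
        rcases h.symm.mem_R_or hv e' hx with m | m <;> rw [R_comm] at m
        · exact ⟨1, by rw [map_one, eq_comm, hk]; exact m⟩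
        · exact ⟨swap 1 2, by rw [f2, ← inv_mul_eq_one, ← map_inv, ← map_mul, hk]; exact m⟩, rfl⟩
    obtain ⟨y, hy, rfl⟩ := this hx
    exact hy
  let ε := MulEquiv.ofBijective φ ⟨inj, sur⟩
  refine ⟨ε.symm.toMonoidHom.comp π, ε.symm.surjective.comp (QuotientGroup.mk'_surjective _), ?_, q', v',
    ε.symm_apply_eq.2 f1.symm, ε.symm_apply_eq.2 f2.symm⟩
  ext x
  simp [hk, mem_subgroupOf]

theorem R_eq (h : Pair Q P z s) : R Q P z s = (Q ⊔ P) ⊓ C[closure {z, s}] := by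
  refine le_antisymm (le_inf R_le_X h.R_le_C) fun x hx => ?_
  obtain ⟨ψ, -, hk, q, v, e1, e2⟩ := h.exists_S3
  have c : ∀ y : ↥(Q ⊔ P), ψ ⟨x, hx.1⟩ * ψ y = ψ y * ψ ⟨x, hx.1⟩ := fun y => by
    have : y * ⟨x, hx.1⟩ * y⁻¹ * ⟨x, hx.1⟩⁻¹ ∈ ψ.ker := hk ▸ (h.X_commSub y.2).2 x hx.2
    rw [MonoidHom.mem_ker, map_mul, map_mul, map_mul, map_inv, map_inv, mul_inv_eq_one,
      mul_inv_eq_iff_eq_mul] at this
    exact this.symm
  have : (⟨x, hx.1⟩ : ↥(Q ⊔ P)) ∈ ψ.ker := S3_center _ (e1 ▸ c q) (e2 ▸ c v)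
  rwa [hk] at this

theorem R_Op (h : Pair Q P z s) : R Q P z s = (pCore 2 ↥(Q ⊔ P)).map (Q ⊔ P).subtype := by
  have : Fact (Nat.Prime 2) := ⟨Nat.prime_two⟩
  refine le_antisymm (by rw [← Op_eq]; exact pcore_max h.R_normal (pgroup_iff.1 h.R_pg)) ?_
  obtain ⟨ψ, hs, hk, -⟩ := h.exists_S3
  have pg : IsPGroup 2 (pCore 2 ↥(Q ⊔ P)) := by rw [← Op_top]; exact Op_pgroup 2 _
  have hn : (pCore 2 ↥(Q ⊔ P)).Normal := by rw [← Op_top]; exact normal_top_iff.1 (pcore_normal _ _)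
  have := hn.map ψ hs
  have e := (Subgroup.map_eq_bot_iff _).1 (S3_two (pg.map ψ))
  rintro _ ⟨x, hx, rfl⟩
  exact hk.le (e hx)

theorem norm_V (h : Pair Q P z s) : N[closure {z, s}] = (Q ⊔ P) ⊔ C[closure {z, s}] := by
  refine le_antisymm (fun y hy => ?_) (sup_le h.X_norm (cent_sub _))
  obtain ⟨q, hq, e⟩ := h.exq
  obtain ⟨v, hv, e'⟩ := h.symm.exq
  have key : ∀ y ∈ N[closure ({z, s} : Set G)], y * z * y⁻¹ = z → y ∈ (Q ⊔ P) ⊔ C[closure {z, s}] := fun y hy c => by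
    rcases h.mem_V.1 ((mem_normalizer_iff.1 hy s).1 sV) with e1 | e1 | e1 | e1
    · exact absurd (by simpa using e1) h.hP.z1
    · exact absurd (by simpa using e1.trans c.symm) h.ne
    · exact mem_sup_right (mem_CV.2 ⟨cj_eq_iff_comm.1 c, cj_eq_iff_comm.1 e1⟩)
    · have : q⁻¹ * y ∈ C[closure ({z, s} : Set G)] := mem_CV.2 ⟨(h.hQ.zc q hq).inv_left.mul_left (cj_eq_iff_comm.1 c),
        cj_eq_iff_comm.1 (by
          calc q⁻¹ * y * s * (q⁻¹ * y)⁻¹ = q⁻¹ * (y * s * y⁻¹) * q := by group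
            _ = s := by rw [e1, ← e]; group)⟩
      simpa using mul_mem (mem_sup_left (mem_sup_left hq)) (mem_sup_right this)
  have key2 : ∀ x ∈ Q ⊔ P, x * z * x⁻¹ = y * z * y⁻¹ → y ∈ (Q ⊔ P) ⊔ C[closure {z, s}] := fun x hx c => by
    have := key _ (mul_mem (inv_mem (h.X_norm hx)) hy) (by
      calc x⁻¹ * y * z * (x⁻¹ * y)⁻¹ = x⁻¹ * (y * z * y⁻¹) * x := by group
        _ = z := by rw [← c]; group)
    simpa using mul_mem (mem_sup_left hx) this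
  rcases h.mem_V.1 ((mem_normalizer_iff.1 hy z).1 zV) with e1 | e1 | e1 | e1
  · exact absurd (by simpa using e1) h.hQ.z1
  · exact key y hy e1
  · refine key2 (q * v) (mul_mem (mem_sup_left hq) (mem_sup_right hv)) ?_
    calc q * v * z * (q * v)⁻¹ = q * (v * z * v⁻¹) * q⁻¹ := by group
      _ = q * z * q⁻¹ * (q * s * q⁻¹) := by rw [e']; group
      _ = _ := by rw [e, e1, cj_eq_iff_comm.2 (h.hQ.zc q hq), h.sz.eq, mul_self_cancel h.hQ.zz]
  · exact key2 v (mem_sup_right hv) (by rw [e', e1, h.sz.eq])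

theorem relIndex_eq (h : Pair Q P z s) : C[closure ({z, s} : Set G)].relIndex N[closure {z, s}] = 6 := by
  obtain ⟨ψ, hs, hk, -⟩ := h.exists_S3
  rw [h.norm_V, relIndex_sup_normr (h.X_norm.trans (cent_norm _)), ← inf_relIndex_right, inf_comm, ← h.R_eq,
    relIndex, ← hk, index_ker, MonoidHom.range_eq_top.2 hs, card_top, Nat.card_perm]
  simp [Nat.factorial]

end Pair

end Cfsg.Agent.LES
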