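import Cfsg.Agent.LES.Pair
import Cfsg.Agent.Sig.FStar
import Cfsg.Agent.Sig.Sf5

/-! Groups with a large extraspecial 2-subgroup: `LE.of_fstar`, `ES.sub`, `ES.cent_odd`, the structure theorem
`struct` and the simplicity criterion `simple_of`. -/

set_option autoImplicit false
set_option linter.unusedSectionVars false
set_option linter.unusedVariables false

namespace Cfsg.Agent.LES

open Subgroup Cfsg.Agent.BG Cfsg.Agent.Invol Cfsg.Agent.PGrp
open Cfsg.Agent.Sig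
open scoped _root_.Classical

variable {G : Type*} [Group G] [Finite G] {Q P A K D : Subgroup G} {z s x y g : G}

theorem ES.sub (h : ES Q z) (hD : D ≤ Q) (hz : z ∈ D) (hc : ∀ x ∈ D, (∀ y ∈ D, Commute x y) → x = 1 ∨ x = z)
    (hn : ∃ x ∈ D, ∃ y ∈ D, ¬ Commute x y) : ES D z :=
  ⟨h.z2, hz, fun y hy => h.zc y (hD hy), hc, fun x hx y hy => h.comm x (hD hx) y (hD hy), fun x hx => h.sq x (hD hx), hn⟩

theorem ES.coprime (h : ES Q z) (hA : Odd #A) : (#Q).Coprime #A := by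
  have : Fact (Nat.Prime 2) := ⟨Nat.prime_two⟩
  obtain ⟨n, hn⟩ := (IsPGroup.iff_card (p := 2)).1 h.pg
  rw [hn]; exact (Nat.coprime_two_left.2 hA).pow_left n

theorem ES.sol (h : ES Q z) : Group.IsSolvable Q := by
  have : Fact (Nat.Prime 2) := ⟨Nat.prime_two⟩
  have := h.pg.isNilpotent; infer_instance

theorem ES.norm_comm (h : ES Q z) (hx : x ∈ N[Q]) : Commute x z := by
  have k := h.conj x
  rw [cj_of_norm hx] at k
  exact cj_eq_iff_comm.1 ((h.cen _ k.zQ fun y hy => (k.zc y hy).symm).resolve_left k.z1)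

/-- An element of `C_Q(A)` not centralized by `Q` is not centralized by `C_Q(A)`. -/
theorem ES.exists_cent (h : ES Q z) (hA : A ≤ N[Q]) (ho : Odd #A) (hx : x ∈ Q) (hc : x ∈ C[A]) (h1 : x ≠ 1)
    (h2 : x ≠ z) : ∃ y ∈ Q ⊓ C[A], y * x * y⁻¹ = x * z := by
  by_contra hn
  push Not at hn
  have : Q ≤ C1[x] := by
    rw [← coprime_cent_prod hA (h.coprime ho) h.sol]
    refine sup_le (commutator_le.2 fun q hq a ha => mem_centralizer_singleton.2 ?_) fun y hy =>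
      mem_centralizer_singleton.2 (cj_eq_iff_comm.1 ((h.comm y hy.1 x hx).resolve_right (hn y hy)))
    have m : a * q⁻¹ * a⁻¹ ∈ Q := (mem_normalizer_iff.1 (hA ha) _).1 (inv_mem hq)
    have c : a * x * a⁻¹ = x := cj_eq_iff_comm.2 (hc a ha)
    have := h.comm_of_iff (inv_mem hq) m hx ⟨fun e => by
      have := e.map (MulAut.conj a); rwa [MulAut.conj_apply, MulAut.conj_apply, c] at this,
      fun e => by rw [← c] at e; simpa [mul_assoc] using e.map (MulAut.conj a⁻¹)⟩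
    simpa [commutatorElement_def, mul_assoc] using this
  rcases h.cen x hx fun y hy => (mem_centralizer_singleton.1 (this hy)).symm with e | e
  exacts [h1 e, h2 e]

theorem ES.cent_odd (h : ES Q z) (hA : A ≤ N[Q]) (ho : Odd #A) :
    Q ⊓ C[A] = zpowers z ∨ ES (Q ⊓ C[A]) z := by
  have hz : z ∈ Q ⊓ C[A] := ⟨h.zQ, fun a ha => (h.norm_comm (hA ha)).eq⟩
  have hc : ∀ x ∈ Q ⊓ C[A], (∀ y ∈ Q ⊓ C[A], Commute x y) → x = 1 ∨ x = z := fun x hx k => by
    by_contra hn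
    push Not at hn
    obtain ⟨y, hy, e⟩ := h.exists_cent hA ho hx.1 hx.2 hn.1 hn.2
    exact h.not_comm_of e (k y hy).symm
  by_cases hn : ∃ x ∈ Q ⊓ C[A], ∃ y ∈ Q ⊓ C[A], ¬ Commute x y
  · exact Or.inr (h.sub inf_le_left hz hc hn)
  · push Not at hn
    exact Or.inl (le_antisymm (fun x hx => (mem_zp h.z2).2 (hc x hx (hn x hx))) (zpowers_le.2 hz))

theorem LE.of_fstar (hz : orderOf z = 2) (hF : fstarIn C1[z] = Q) (hQ : IsExtraspecial 2 Q) :
    LE Q z ∧ Q = pcIn 2 C1[z] := by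
  have : Fact (Nat.Prime 2) := ⟨Nat.prime_two⟩
  have l : Q ≤ C1[z] := hF ▸ fstarIn_le
  have k := inf_centralizer_fstarIn_le C1[z]
  rw [hF] at k
  have zQ : z ∈ Q := k ⟨mem_centralizer_singleton.2 (Commute.refl z), le_cent1_iff.1 l⟩
  have e := ES.of_mem hQ zQ (ne_one_of hz) l
  refine ⟨⟨e, fun x hx => e.cen x (k ⟨mem_centralizer_singleton.2 (hx z zQ), fun y hy => (hx y hy).eq.symm⟩) hx,
    fun x hx => hF ▸ le_normalizer_fstarIn le_normalizer (mem_centralizer_singleton.2 hx)⟩, ?_⟩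
  rw [← hF]; exact fstarIn_eq_pcIn_iff_isPGroup.2 (hF ▸ e.pg)

theorem uniq_dec (h : K ⊓ C[K] = ⊥) {a b a' b' : G} (ha : a ∈ K) (ha' : a' ∈ K) (hb : b ∈ C[K]) (hb' : b' ∈ C[K])
    (e : a * b = a' * b') : a = a' := by
  have : a'⁻¹ * a ∈ K ⊓ C[K] := ⟨K.mul_mem (K.inv_mem ha') ha, by
    rw [show a'⁻¹ * a = b' * b⁻¹ by rw [inv_mul_eq_iff_eq_mul, ← mul_assoc, ← e]; simp]
    exact C[K].mul_mem hb' (C[K].inv_mem hb)⟩
  rw [h, mem_bot, inv_mul_eq_one] at this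
  exact this.symm

namespace LE

theorem not_le_cent (h : LE Q z) {L : Subgroup G} (hL : CompIn L ⊤) : ¬ L ≤ C1[z] := fun hc => by
  have h1 := hL.commutator_eq_bot_of_isSolvable le_top h.sol
    fun x hx => h.nQ x (mem_centralizer_singleton.1 (hc hx))
  have h2 : L ≤ zpowers z := fun x hx => (mem_zp h.z2).2 (h.cQ x fun y hy => (commG1.1 h1 hx y hy).symm)
  exact hL.ne_bot (by rw [← hL.perfect]; exact commG1.2 (abelian_iff.1 (abelianS h2 (abelian_zpowers z))))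

theorem mem_of_sylow (h : LE Q z) {T N : Subgroup G} (hT : SylowIn 2 T ⊤) (hQ : Q ≤ T) [N.Normal]
    (hne : T ⊓ N ≠ ⊥) : z ∈ N ∧ T ≤ C1[z] := by
  have : Fact (Nat.Prime 2) := ⟨Nat.prime_two⟩
  obtain ⟨y, hy, yc, y1, -⟩ := exists_center_p hT.pg (norm_normalI (norm_of_normal N T)) hne
  obtain rfl := (h.cQ y fun w hw => (yc w (hQ hw)).symm).resolve_left y1
  exact ⟨hy.2, le_cent1_iff.2 yc⟩

theorem mem_normal (h : LE Q z) (hl : IsLargeExtraspecial Q) {N : Subgroup G} [N.Normal] (hne : N ≠ ⊥) : z ∈ N := by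
  have : Fact (Nat.Prime 2) := ⟨Nat.prime_two⟩
  obtain ⟨T, hT, lT⟩ := Sylow_superset le_top h.pg
  refine (h.mem_of_sylow hT lT fun e => hne (hl.2.2.2 N ?_ (norm_of_normal N Q))).1
  have := (Sylow_setI_normal (normal_top N) hT).not_dvd
  rw [inf_comm, e, relIndex_bot_left] at this
  rwa [← Nat.not_even_iff_odd, even_iff_two_dvd]

end LE

theorem struct (hQ : IsLargeExtraspecial Q) (h : LE Q z) {M : Subgroup G} (hM : M = normalClosure {z}) :
    (IsMulCommutative M ∧ generalizedFittingSubgroup G = pCore 2 G) ∨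
    (M = generalizedFittingSubgroup G ∧ IsSimpleGroup M ∧ ¬ IsMulCommutative M) ∨
    (M = generalizedFittingSubgroup G ∧ ∃ (L : Subgroup G) (u : G), u ∈ Q ∧ IsSimpleGroup L ∧ ¬ IsMulCommutative L ∧
      L ⊓ cj u L = ⊥ ∧ (∀ x ∈ L, ∀ y ∈ cj u L, x * y = y * x) ∧ L ⊔ cj u L = M ∧ ∃ z₁ ∈ L, z = z₁ * (u * z₁ * u⁻¹) ∧
      SylowIn 2 (L ⊓ C1[z₁]) L ∧ Phi (L ⊓ C1[z₁]) ≤ zpowers z₁ ∧ Q ≠ pcIn 2 C1[z]) := by
  have : Fact (Nat.Prime 2) := ⟨Nat.prime_two⟩
  have nM : M.Normal := hM ▸ normalClosure_normal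
  have zM : z ∈ M := hM ▸ subset_normalClosure rfl
  have mM : ∀ N : Subgroup G, N.Normal → z ∈ N → M ≤ N := fun N _ hz =>
    hM ▸ normalClosure_le_normal (Set.singleton_subset_iff.2 hz)
  obtain ⟨T, hT, lT⟩ := Sylow_superset le_top h.pg
  have hTz := (h.mem_of_sylow (N := ⊤) hT lT (by
    rw [inf_top_eq]; exact fun e => h.z1 (mem_bot.1 (e ▸ lT h.zQ)))).2
  have o' : ppIn 2 (⊤ : Subgroup G) = ⊥ :=
    hQ.2.2.2 _ (Nat.coprime_two_right.1 coprime_ppIn) (le_normalizer_ppIn (by simp))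
  have nO : (pcIn 2 (⊤ : Subgroup G)).Normal := normal_top_iff.1 ⟨le_top, le_normalizer_pcIn (by simp)⟩
  by_cases hO : pcIn 2 (⊤ : Subgroup G) = ⊥
  swap
  · left
    have zO := h.mem_normal hQ hO
    have lO : pcIn 2 ⊤ ≤ T := by
      have := pcore_sub_Hall hT; rwa [show piCoreOf {2} (⊤ : Subgroup G) = pcIn 2 ⊤ from Op_eq 2 ⊤] at this
    refine ⟨abelianS (mM _ (normal_top (pcIn 2 ⊤)).center.normal ⟨zO, le_cent1_iff.1 (lO.trans hTz)⟩)
      (center_abelian _), ?_⟩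
    rw [← fstarIn_top, ← pcIn_top]
    refine fstarIn_eq_pcIn_iff'.2 ⟨layerIn_eq_bot_iff.2 fun L hL => h.not_le_cent hL ?_, o'⟩
    exact hL.le_layerIn.trans ((commG1.1 commutator_layerIn_pcIn).trans (cent_le_cent1 zO))
  right
  have f0 : fitIn (⊤ : Subgroup G) = ⊥ := (fitIn_eq_pcIn o').trans hO
  have fE : generalizedFittingSubgroup G = layerIn ⊤ := by rw [← fstarIn_top, fstarIn_eq, f0, sup_bot_eq]
  have nE : (layerIn (⊤ : Subgroup G)).Normal := fE ▸ inferInstance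
  have E0 : layerIn (⊤ : Subgroup G) ≠ ⊥ := fun e => h.z1 (by
    rw [← fE, ← fstarIn_top, fstarIn_eq_bot_iff] at e; exact mem_bot.1 (e ▸ mem_top z))
  have zE := h.mem_normal hQ E0
  have ME : M = layerIn ⊤ := le_antisymm (mM _ nE zE) (layerIn_le_iff.2 fun L hL =>
    (hL.le_or_commutator_of_le_normalizer le_top (norm_of_normal M L)).resolve_right fun e =>
      h.not_le_cent hL ((commG1.1 e).trans (cent_le_cent1 zM)))
  have zc : ∀ L, CompIn L (⊤ : Subgroup G) → L ⊓ C[L] = ⊥ := fun L hL =>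
    eq_bot_iff.2 (f0 ▸ center_le_fitIn hL.subnIn)
  have sim : ∀ L, CompIn L (⊤ : Subgroup G) → IsSimpleGroup L ∧ ¬ IsMulCommutative L := fun L hL =>
    ⟨qs_simple_of_center_eq_bot hL.qs (by
      have := zc L hL
      rwa [← map_subtype_center, map_eq_bot_iff_of_injective _ L.subtype_injective] at this),
      fun ab => hL.ne_bot (by rw [← hL.perfect]; exact commG1.2 (abelian_iff.1 ab))⟩
  have cc : ∀ L K, CompIn L (⊤ : Subgroup G) → CompIn K ⊤ → L ≠ K → L ≤ C[K] := fun L K hL hK hne =>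
    commG1.1 (hL.commutator_eq_bot_of_ne hK hne)
  have cjc : ∀ L g, CompIn L (⊤ : Subgroup G) → CompIn (cj g L) ⊤ := fun L g hL => hL.conj (by simp)
  obtain ⟨L, hL⟩ : ∃ L, CompIn L (⊤ : Subgroup G) := by
    by_contra hn; exact E0 (layerIn_eq_bot_iff.2 fun L hL => hn ⟨L, hL⟩)
  have nCL : L ≤ N[layerIn ⊤ ⊓ C[L]] := normsI (norm_of_normal _ _) ((normG L).trans (cent_norm L))
  obtain ⟨z₁, hz₁, c, hc, ez⟩ := (mem_sup_normr nCL).1 (hL.layerIn_eq_sup_centralizer ▸ zE)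
  have fx : ∀ y ∈ N[L], Commute y z → Commute y z₁ := fun y hy k => cj_eq_iff_comm.1
    (uniq_dec (zc L hL) ((mem_normalizer_iff.1 hy _).1 hz₁) hz₁ ((mem_normalizer_iff.1 (cent_norm L hy) _).1 hc.2) hc.2
      (by rw [← ez, ← cj_eq_iff_comm.2 k, ez]; group))
  have z11 : z₁ ≠ 1 := fun e => h.not_le_cent hL (le_cent1_iff.2 (by rw [ez, e, one_mul]; exact hc.2))
  by_cases hn : Q ≤ N[L]
  · left
    obtain rfl := (h.cQ z₁ fun y hy => (fx y (hn hy) (h.zc y hy)).symm).resolve_left z11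
    have : M = L := by
      rw [ME]
      refine le_antisymm (layerIn_le_iff.2 fun K hK => ?_) hL.le_layerIn
      by_contra hne
      exact h.not_le_cent hK ((cc K L hK hL fun e => hne e.le).trans (cent_le_cent1 hz₁))
    exact ⟨ME.trans fE.symm, this ▸ sim L hL⟩
  right
  obtain ⟨u, hu, hun⟩ := not_forall₂.1 hn
  have hL2 := cjc L u hL
  have ne2 : L ≠ cj u L := fun e => hun (mem_norm.2 e.symm)
  have c12 := cc _ _ hL hL2 ne2
  have c21 := centsC.1 c12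
  have cz : ∀ x ∈ L ⊓ C1[z₁], Commute x z := fun x hx => by
    rw [ez]; exact (mem_centralizer_singleton.1 hx.2).mul_right (hc.2 x hx.1)
  have wQ : ∀ x ∈ L ⊓ C1[z₁], x * (u * x⁻¹ * u⁻¹) ∈ Q := fun x hx => by
    simpa [mul_assoc] using mul_mem (h.conj_mem (cz x hx) hu) (inv_mem hu)
  have mu : ∀ x ∈ L, u * x * u⁻¹ ∈ C[L] := fun x hx => c21 (conj_mem_cj u hx)
  have wne : ∀ x ∈ L, ∀ y ∈ C[L], x * y = 1 ∨ x * y = z → x = 1 ∨ x = z₁ := fun x hx y hy e => e.imp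
    (fun e => uniq_dec (zc L hL) hx (one_mem _) hy (one_mem _) (by simpa using e))
    fun e => uniq_dec (zc L hL) hx hz₁ hy hc.2 (e.trans ez)
  have sq : ∀ x ∈ L ⊓ C1[z₁], x * x = 1 ∨ x * x = z₁ := fun x hx => by
    have k := mu _ (inv_mem hx.1)
    refine wne _ (mul_mem hx.1 hx.1) _ (mul_mem k k) ?_
    have := h.sq _ (wQ x hx)
    rwa [(show Commute x _ from k x hx.1).symm.mul_mul_mul_comm] at this
  have z12 : z₁ * z₁ = 1 := uniq_dec (zc L hL) (mul_mem hz₁ hz₁) (one_mem _) (mul_mem hc.2 hc.2) (one_mem _) (by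
    rw [(show Commute z₁ c from hc.2 z₁ hz₁).mul_mul_mul_comm, ← ez, h.zz, one_mul])
  have o1 : orderOf z₁ = 2 := orderOf_two_iff.2 ⟨z12, z11⟩
  have p4 : ∀ x ∈ L ⊓ C1[z₁], x ^ 2 ^ 2 = 1 := fun x hx => by
    rw [show x ^ 2 ^ 2 = (x * x) * (x * x) by norm_num [pow_succ, mul_assoc]]
    rcases sq x hx with e | e <;> simp [e, z12]
  have pR : IsPGroup 2 ↥(L ⊓ C1[z₁]) := fun x => ⟨2, Subtype.ext (p4 x x.2)⟩
  have sL : SylowIn 2 (L ⊓ C1[z₁]) L := by
    have s1 := Sylow_setI_normal (show L ⊴ layerIn ⊤ from ⟨hL.le_layerIn, hL.layerIn_le_normalizer⟩)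
      (Sylow_setI_normal (normal_top (layerIn ⊤)) hT)
    rwa [Hall_max s1 (le_inf inf_le_left fun x hx => mem_centralizer_singleton.2
      (fx x (normG L hx.1) (mem_centralizer_singleton.1 (hTz hx.2.2)))) inf_le_left (pgroup_iff.1 pR)]
  have zR : z₁ ∈ L ⊓ C1[z₁] := ⟨hz₁, mem_centralizer_singleton.2 (Commute.refl _)⟩
  obtain ⟨x, hx, x1, x2⟩ : ∃ x ∈ L ⊓ C1[z₁], x ≠ 1 ∧ x ≠ z₁ := by
    by_contra hn
    push Not at hn
    have e : L ⊓ C1[z₁] = zpowers z₁ := le_antisymm (fun x hx => (mem_zp o1).2 (or_iff_not_imp_left.2 (hn x hx)))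
      (zpowers_le.2 zR)
    rw [e] at sL
    have sd := Burnside_normal_complement sL fun y hy => by
      have k : Commute y z₁ := cj_eq_iff_comm.1 (((mem_zp o1).1 ((mem_normalizer_iff.1 hy.2 _).1
        (mem_zpowers z₁))).resolve_left (by simpa using z11))
      rintro _ ⟨n, rfl⟩
      exact (k.zpow_right n).eq.symm
    have := (sim L hL).1
    rcases (sim L hL).1.eq_bot_or_eq_top_of_normal _ (pcore_normal {2}ᶜ L).subgroupOf with e | e
    · have e1 : Op' 2 L = ⊥ := (map_subgroupOf_eq_of_le (pcore_normal {2}ᶜ L).1).symm.trans (by rw [e, Subgroup.map_bot])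
      have := sd.sup
      rw [e1, bot_sup_eq] at this
      exact (sim L hL).2 (this ▸ abelian_zpowers z₁)
    · exact z11 (mem_bot.1 (sd.inf ▸ (⟨subgroupOf_eq_top.1 e hz₁, mem_zpowers z₁⟩ : z₁ ∈ Op' 2 L ⊓ zpowers z₁)))
  have wn : ¬ (x * (u * x⁻¹ * u⁻¹) = 1 ∨ x * (u * x⁻¹ * u⁻¹) = z) := fun e =>
    (wne x hx.1 _ (mu _ (inv_mem hx.1)) e).elim x1 x2
  have ez2 : z = u * z₁ * u⁻¹ * (u * c * u⁻¹) := by rw [← cj_eq_iff_comm.2 (h.zc u hu), ez]; group
  have hc2 : u * c * u⁻¹ ∈ C[cj u L] := C_cj u L ▸ conj_mem_cj u hc.2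
  have two : ∀ K, CompIn K (⊤ : Subgroup G) → K = L ∨ K = cj u L := fun K hK => by
    by_contra hn
    push Not at hn
    set w := x * (u * x⁻¹ * u⁻¹) with hw
    refine wn (h.cen w (wQ x hx) fun v hv => (cj_eq_iff_comm.1 ((h.comm v hv w (wQ x hx)).resolve_right fun e => ?_)).symm)
    have k : ∀ J, CompIn J (⊤ : Subgroup G) → cj v L ≠ J → cj v (cj u L) ≠ J → w * z ∈ C[J] := fun J hJ n1 n2 => by
      rw [← e, show v * w * v⁻¹ = v * x * v⁻¹ * (v * (u * x⁻¹ * u⁻¹) * v⁻¹) by rw [hw]; group]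
      exact mul_mem (cc _ _ (cjc L v hL) hJ n1 (conj_mem_cj v hx.1))
        (cc _ _ (cjc _ v hL2) hJ n2 (conj_mem_cj v (conj_mem_cj u (inv_mem hx.1))))
    have k1 : w * z ∉ C[L] := fun m => x2 (by
      have := uniq_dec (zc L hL) (mul_mem hx.1 hz₁) (one_mem _) (mul_mem (mu _ (inv_mem hx.1)) hc.2) m (by
        rw [one_mul, hw, (show Commute z₁ _ from mu _ (inv_mem hx.1) z₁ hz₁).mul_mul_mul_comm, ← ez])
      rw [eq_inv_of_mul_eq_one_left this, inv_eq_of o1])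
    have k2 : w * z ∉ C[cj u L] := fun m => x2 (by
      have a1 := conj_mem_cj u (inv_mem hx.1)
      have a2 := conj_mem_cj u hz₁
      have := uniq_dec (zc _ hL2) (mul_mem a1 a2) (one_mem _) (mul_mem (c12 hx.1) hc2) m (by
        rw [one_mul, hw, (show Commute _ x from c12 hx.1 _ a2).mul_mul_mul_comm, ← ez2, c12 hx.1 _ a1])
      rw [show u * x⁻¹ * u⁻¹ * (u * z₁ * u⁻¹) = u * (x⁻¹ * z₁) * u⁻¹ by group] at this
      exact inv_mul_eq_one.1 (by simpa using this))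
    have k3 : w * z ∉ C[K] := fun m => h.not_le_cent hK (le_cent1_iff.2 ((mul_mem_cancel_left
      (mul_mem (cc _ _ hL hK hn.1.symm hx.1) (cc _ _ hL2 hK hn.2.symm (conj_mem_cj u (inv_mem hx.1))))).1 m))
    by_cases a1 : cj v L = L
    · by_cases a2 : cj v (cj u L) = cj u L
      · exact k3 (k K hK (a1.trans_ne hn.1.symm) (a2.trans_ne hn.2.symm))
      · exact k2 (k _ hL2 (a1.trans_ne ne2) a2)
    · by_cases a2 : cj v (cj u L) = L
      · by_cases a3 : cj v L = cj u L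
        · exact k3 (k K hK (a3.trans_ne hn.2.symm) (a2.trans_ne hn.1.symm))
        · exact k2 (k _ hL2 a3 (a2.trans_ne ne2))
      · exact k1 (k L hL a1 a2)
  have EL : L ⊔ cj u L = layerIn ⊤ := le_antisymm (sup_le hL.le_layerIn hL2.le_layerIn)
    (layerIn_le_iff.2 fun K hK => (two K hK).elim (fun e => e ▸ le_sup_left) fun e => e ▸ le_sup_right)
  have cL2 : c ∈ cj u L := by
    have := inf_centralizer_left_eq (commG1.2 c12)
    rw [EL, zc L hL, bot_sup_eq] at this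
    exact this ▸ hc
  have ec : c = u * z₁ * u⁻¹ := uniq_dec (zc _ hL2) cL2 (conj_mem_cj u hz₁) (c12 hz₁) hc2 (by
    rw [← ez2, ez]; exact (hc.2 z₁ hz₁).symm)
  refine ⟨ME.trans fE.symm, L, u, hu, (sim L hL).1, (sim L hL).2,
    eq_bot_iff.2 (zc L hL ▸ inf_le_inf_left L c21), fun a ha b hb => (c12 ha b hb).symm, EL.trans ME.symm, z₁, hz₁,
    ec ▸ ez, sL, (Phi_min pR).2 ⟨commutator_le.2 fun a ha b hb => ?_, fun a ha => (mem_zp o1).2 (pow_two a ▸ sq a ha)⟩,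
    fun e => wn ?_⟩
  · have m : ∀ a ∈ L ⊓ C1[z₁], a * a ∈ zpowers z₁ := fun a ha => (mem_zp o1).2 (sq a ha)
    have n : ∀ y ∈ zpowers z₁, a * y * a⁻¹ = y := fun y hy => by
      rcases (mem_zp o1).1 hy with rfl | rfl
      exacts [by simp, cj_eq_iff_comm.2 (mem_centralizer_singleton.1 ha.2)]
    have := mul_mem (mul_mem (m _ (mul_mem ha hb)) (inv_mem (m b hb))) (inv_mem (m a ha))
    rw [show a * b * (a * b) * (b * b)⁻¹ * (a * a)⁻¹ = a * (b * a * b⁻¹ * a⁻¹) * a⁻¹ by group] at this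
    have k : b * a * b⁻¹ * a⁻¹ ∈ zpowers z₁ := by
      have := (mem_normalizer_iff.1 (cent1_le_norm_zpowers z₁ ha.2) _).2 this; exact this
    simpa [commutatorElement_def, mul_assoc] using inv_mem k
  have : layerIn ⊤ ⊓ C1[z] ≤ Q := by
    rw [e]
    refine le_pcIn inf_le_right (normsI (norm_of_normal _ _) (normG _)) fun ⟨y, hy⟩ => ⟨2, Subtype.ext ?_⟩
    obtain ⟨a, ha, b, hb, rfl⟩ := (mem_sup_normr (c12.trans (cent_sub _))).1 (EL ▸ hy.1)
    have cab : Commute a b := (c12 ha b hb).symm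
    have yz := mem_centralizer_singleton.1 hy.2
    have y1 := fx _ (hL.layerIn_le_normalizer hy.1) yz
    have a1 : Commute a z₁ := by simpa using y1.mul_left (show Commute b z₁ from (c21 hb z₁ hz₁).symm).inv_left
    have az := cz a ⟨ha, mem_centralizer_singleton.2 a1⟩
    have bz : Commute (u⁻¹ * b * u) z :=
      ((h.zc u hu).inv_left.mul_left (by simpa using az.inv_left.mul_left yz)).mul_left (h.zc u hu)
    have b4 := p4 _ ⟨mem_cj.1 hb, mem_centralizer_singleton.2 (fx _ (normG L (mem_cj.1 hb)) bz)⟩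
    show (a * b) ^ 2 ^ 2 = 1
    rw [cab.mul_pow, p4 a ⟨ha, mem_centralizer_singleton.2 a1⟩, one_mul, ← mul_inv_cancel_left u b,
      ← mul_inv_cancel_right (u * (u⁻¹ * b)) u, mul_assoc u, conj_pow, b4]; simp
  have xQ := this ⟨hL.le_layerIn hx.1, mem_centralizer_singleton.2 (cz x hx)⟩
  rcases h.comm x xQ u hu with e | e
  · left; rw [← mul_assoc, ← mul_assoc, e]; simp
  · right; rw [← mul_assoc, ← mul_assoc, e, (h.zc u hu).eq]; simp

theorem simple_of (hQ : IsLargeExtraspecial Q) (h : LE Q z) (hO : Q = pcIn 2 C1[z])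
    (hM : C1[z] ≤ normalClosure {z}) : IsSimpleGroup G := by
  have : Fact (Nat.Prime 2) := ⟨Nat.prime_two⟩
  have lQ : Q ≤ normalClosure {z} := fun y hy => hM (mem_centralizer_singleton.2 (h.zc y hy))
  have top : normalClosure ({z} : Set G) = ⊤ := by
    obtain ⟨T, hT, lT⟩ := Sylow_superset le_top h.pg
    have hTz := (h.mem_of_sylow (N := ⊤) hT lT (by
      rw [inf_top_eq]; exact fun e => h.z1 (mem_bot.1 (e ▸ lT h.zQ)))).2
    rw [← Frattini_arg (normal_top _) (pHall_subl (hTz.trans hM) le_top hT), eq_comm, sup_eq_left]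
    refine fun y hy => hM (mem_centralizer_singleton.2 (cj_eq_iff_comm.1 ?_))
    refine (h.cQ _ fun w hw => ?_).resolve_left (by simpa using h.z1)
    have := mem_centralizer_singleton.1 (hTz ((mem_normalizer_iff.1 (inv_mem hy.2) w).1 (lT hw)))
    simpa [mul_assoc] using (this.map (MulAut.conj y)).symm
  rcases struct hQ h rfl with ⟨ab, -⟩ | ⟨-, hs, -⟩ | ⟨-, L, u, -, -, -, -, -, -, w, -, -, -, -, hn⟩
  · obtain ⟨x, hx, y, hy, hn⟩ := h.nab
    exact absurd (IsMulCommutative.comm ab (lQ hx) (lQ hy)) hn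
  · rw [top] at hs; exact topEquiv.symm.isSimpleGroup
  · exact absurd hO hn

end Cfsg.Agent.LES
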