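import Cfsg.Agent.BG.S3Gen
import Cfsg.Agent.PGrp.ES
import Cfsg.Agent.Invol.Basic
import Cfsg.Prelude.Def_MonsterType

/-! Large extraspecial 2-subgroups (Aschbacher, Sporadic Groups §8): `ES Q z` (`Q` extraspecial with centre `⟨z⟩`),
`LE Q z` (also `C(Q) ≤ ⟨z⟩`, `C(z) ≤ N(Q)`), `ES.perp1`, `ES.dperp`, `LE.sym` (`z^g ∈ Q ⇒ z ∈ Q^g`), `LE.large_of`,
`LE.large_of_inv`, `LE.cent_A`. -/

set_option autoImplicit false
set_option linter.unusedSectionVars false
set_option linter.unusedVariables false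

namespace Cfsg.Agent.LES

open Subgroup Cfsg.Agent.BG Cfsg.Agent.Invol Cfsg.Agent.PGrp
open scoped _root_.Classical

variable {G : Type*} [Group G] [Finite G] {Q A K : Subgroup G} {z s x y g : G}

theorem mem_zp (h : orderOf z = 2) : x ∈ zpowers z ↔ x = 1 ∨ x = z := by
  refine ⟨fun hm => ?_, fun h => by rcases h with rfl | rfl; exacts [one_mem _, mem_zpowers _]⟩
  rw [mem_zpowers_iff_mem_range_orderOf, h] at hm
  simp only [Finset.range_add_one, Finset.range_zero, Finset.mem_image, Finset.mem_insert] at hm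
  obtain ⟨i, hi | hi | hi, e⟩ := hm
  · right; rw [← e, hi]; simp
  · left; rw [← e, hi]; simp
  · simp at hi

theorem cj_eq_iff_comm : x * y * x⁻¹ = y ↔ Commute x y := mul_inv_eq_iff_eq_mul

/-- `Q` is an extraspecial 2-group with centre `⟨z⟩`. -/
structure ES (Q : Subgroup G) (z : G) : Prop where
  z2 : orderOf z = 2
  zQ : z ∈ Q
  zc : ∀ y ∈ Q, Commute y z
  cen : ∀ x ∈ Q, (∀ y ∈ Q, Commute x y) → x = 1 ∨ x = z
  comm : ∀ x ∈ Q, ∀ y ∈ Q, x * y * x⁻¹ = y ∨ x * y * x⁻¹ = y * z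
  sq : ∀ x ∈ Q, x * x = 1 ∨ x * x = z
  nab : ∃ x ∈ Q, ∃ y ∈ Q, ¬ Commute x y

namespace ES

theorem zz (h : ES Q z) : z * z = 1 := mul_self_of h.z2
theorem z1 (h : ES Q z) : z ≠ 1 := ne_one_of h.z2

theorem center_eq (h : ES Q z) : (center Q).map Q.subtype = zpowers z := by
  ext x
  rw [mem_zp h.z2]
  refine ⟨fun ⟨y, hy, e⟩ => e ▸ h.cen y y.2 fun w hw =>
    (congrArg Subtype.val (mem_center_iff.1 hy ⟨w, hw⟩)).symm, ?_⟩
  rintro (rfl | rfl)
  · exact one_mem _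
  · exact ⟨⟨x, h.zQ⟩, mem_center_iff.2 fun w => Subtype.ext (h.zc w w.2).eq, rfl⟩

theorem mem_zp' (h : ES Q z) (x : Q) : x ∈ zpowers (⟨z, h.zQ⟩ : Q) ↔ x.1 = 1 ∨ x.1 = z := by
  rw [mem_zp (by rw [← h.z2]; exact (Subgroup.orderOf_coe _).symm), Subtype.ext_iff, Subtype.ext_iff]
  rfl

theorem isES (h : ES Q z) : IsES 2 (⟨z, h.zQ⟩ : Q) where
  ord := by rw [← h.z2]; exact (Subgroup.orderOf_coe _).symm
  cen := mem_center_iff.2 fun w => Subtype.ext (h.zc w w.2).eq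
  comm x y := (h.mem_zp' _).2 (by
    show x.1 * y * x.1⁻¹ * y.1⁻¹ = 1 ∨ x.1 * y * x.1⁻¹ * y.1⁻¹ = z
    rcases h.comm x x.2 y y.2 with e | e <;> rw [e]
    · simp
    · rw [(h.zc y y.2).eq]; simp)
  pow x := (h.mem_zp' _).2 (by rw [pow_two]; exact h.sq x x.2)

theorem center' (h : ES Q z) : center Q = zpowers (⟨z, h.zQ⟩ : Q) :=
  map_injective Q.subtype_injective (by rw [h.center_eq, MonoidHom.map_zpowers]; rfl)

theorem isExtraspecial (h : ES Q z) : IsExtraspecial 2 Q := by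
  have : Fact (Nat.Prime 2) := ⟨Nat.prime_two⟩
  obtain ⟨x, hx, y, hy, hn⟩ := h.nab
  exact h.isES.isExtraspecial h.center' fun hc =>
    hn (congrArg Subtype.val (hc.is_comm.comm ⟨x, hx⟩ ⟨y, hy⟩))

theorem pg (h : ES Q z) : IsPGroup 2 Q := h.isES.isPGroup

theorem of_ext (h : IsExtraspecial 2 Q) : ∃ z, ES Q z := by
  have : Fact (Nat.Prime 2) := ⟨Nat.prime_two⟩
  obtain ⟨z, hz, hc⟩ := exists_isES h
  have o : orderOf (z : G) = 2 := by rw [Subgroup.orderOf_coe, hz.ord]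
  have m : ∀ x : Q, x ∈ zpowers z → x.1 = 1 ∨ x.1 = z := fun x hx => by
    rcases (mem_zp hz.ord).1 hx with rfl | rfl <;> simp
  have zc : ∀ y ∈ Q, Commute y z := fun y hy => congrArg Subtype.val (mem_center_iff.1 hz.cen ⟨y, hy⟩)
  refine ⟨z, o, z.2, zc, fun x hx hc' => m ⟨x, hx⟩ (hc ▸ mem_center_iff.2 fun w => Subtype.ext (hc' w w.2).eq.symm),
    fun x hx y hy => ?_, fun x hx => by simpa [pow_two] using m _ (hz.pow ⟨x, hx⟩), ?_⟩
  · rcases m _ (hz.comm ⟨x, hx⟩ ⟨y, hy⟩) with e | e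
    · exact Or.inl (mul_inv_eq_one.1 e)
    · exact Or.inr (by rw [(zc y hy).eq]; exact mul_inv_eq_iff_eq_mul.1 e)
  · by_contra hn
    push Not at hn
    exact ES_not_comm h ⟨⟨fun a b => Subtype.ext (hn a a.2 b b.2).eq⟩⟩

theorem of_center (h : IsExtraspecial 2 Q) (hz : (center Q).map Q.subtype = zpowers z) : ES Q z := by
  obtain ⟨w, hw⟩ := of_ext h
  have h1 : z ∈ zpowers w := by rw [← hw.center_eq, hz]; exact mem_zpowers z
  rcases (mem_zp hw.z2).1 h1 with rfl | rfl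
  · have : w ∈ zpowers (1 : G) := by rw [← hz, hw.center_eq]; exact mem_zpowers w
    exact absurd (by simpa using this) hw.z1
  · exact hw

theorem of_mem (h : IsExtraspecial 2 Q) (hz : z ∈ Q) (h1 : z ≠ 1) (hc : Q ≤ C1[z]) : ES Q z := by
  obtain ⟨w, hw⟩ := of_ext h
  rcases hw.cen z hz fun y hy => (mem_centralizer_singleton.1 (hc hy)).symm with rfl | rfl
  · exact absurd rfl h1
  · exact hw

theorem conj (h : ES Q z) (g : G) : ES (cj g Q) (g * z * g⁻¹) where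
  z2 := by rw [BG.orderOf_conj', h.z2]
  zQ := conj_mem_cj g h.zQ
  zc y hy := by
    obtain ⟨v, hv, rfl⟩ := mem_cj'.1 hy
    exact (h.zc v hv).map (MulAut.conj g)
  cen x hx hc := by
    obtain ⟨u, hu, rfl⟩ := mem_cj'.1 hx
    rcases h.cen u hu fun y hy => by simpa [mul_assoc] using (hc _ (conj_mem_cj g hy)).map (MulAut.conj g⁻¹)
      with rfl | rfl <;> simp
  comm x hx y hy := by
    obtain ⟨u, hu, rfl⟩ := mem_cj'.1 hx
    obtain ⟨v, hv, rfl⟩ := mem_cj'.1 hy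
    have : g * u * g⁻¹ * (g * v * g⁻¹) * (g * u * g⁻¹)⁻¹ = g * (u * v * u⁻¹) * g⁻¹ := by group
    rcases h.comm u hu v hv with e | e <;> rw [this, e] <;> simp [mul_assoc]
  sq x hx := by
    obtain ⟨u, hu, rfl⟩ := mem_cj'.1 hx
    have : g * u * g⁻¹ * (g * u * g⁻¹) = g * (u * u) * g⁻¹ := by group
    rcases h.sq u hu with e | e <;> rw [this, e] <;> simp
  nab := by
    obtain ⟨x, hx, y, hy, hn⟩ := h.nab
    exact ⟨_, conj_mem_cj g hx, _, conj_mem_cj g hy, fun hc => hn (by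
      simpa [mul_assoc] using hc.map (MulAut.conj g⁻¹))⟩

theorem conj_of_not (h : ES Q z) (hx : x ∈ Q) (hy : y ∈ Q) (hn : ¬ Commute x y) : x * y * x⁻¹ = y * z :=
  (h.comm x hx y hy).resolve_left fun e => hn (cj_eq_iff_comm.1 e)

theorem exists_conj (h : ES Q z) (hs : s ∈ Q) (h1 : s ≠ 1) (h2 : s ≠ z) : ∃ q ∈ Q, q * s * q⁻¹ = s * z := by
  by_contra hn
  push Not at hn
  rcases h.cen s hs fun y hy => (cj_eq_iff_comm.1 ((h.comm y hy s hs).resolve_right (hn y hy))).symm with e | e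
  exacts [h1 e, h2 e]

theorem not_comm_of (h : ES Q z) (e : x * y * x⁻¹ = y * z) : ¬ Commute x y := fun hc =>
  h.z1 (by rw [cj_eq_iff_comm.2 hc] at e; simpa using e.symm)

theorem mul_comm_of (h : ES Q z) {w : G} (hx : x ∈ Q) (hy : y ∈ Q) (hw : w ∈ Q) (h1 : ¬ Commute x w)
    (h2 : ¬ Commute y w) : Commute (x * y) w := by
  rw [← cj_eq_iff_comm]
  calc x * y * w * (x * y)⁻¹ = x * (y * w * y⁻¹) * x⁻¹ := by group
    _ = x * w * x⁻¹ * (x * z * x⁻¹) := by rw [h.conj_of_not hy hw h2]; group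
    _ = w := by rw [h.conj_of_not hx hw h1, cj_eq_iff_comm.2 (h.zc x hx), mul_assoc, h.zz, mul_one]

theorem comm_of_iff (h : ES Q z) {w : G} (hx : x ∈ Q) (hy : y ∈ Q) (hw : w ∈ Q) (e : Commute x w ↔ Commute y w) :
    Commute (x⁻¹ * y) w := by
  by_cases h1 : Commute x w
  · exact h1.inv_left.mul_left (e.1 h1)
  · exact h.mul_comm_of (inv_mem hx) hy hw (fun h2 => h1 (by simpa using h2.inv_left)) fun h2 => h1 (e.2 h2)

theorem perp1 (h : ES Q z) (hs : s ∈ Q) (hx : x ∈ Q) (hc : ∀ y ∈ Q, Commute y s → Commute y x) :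
    x = 1 ∨ x = z ∨ x = s ∨ x = s * z := by
  by_cases h0 : ∀ y ∈ Q, Commute x y
  · rcases h.cen x hx h0 with e | e <;> simp [e]
  push Not at h0
  obtain ⟨w, hw, hn⟩ := h0
  have := h.cen _ (mul_mem (inv_mem hs) hx) fun y hy => h.comm_of_iff hs hx hy
    ⟨fun e => (hc y hy e.symm).symm, fun e => by
      by_contra h2
      have := hc _ (mul_mem hy hw) (h.mul_comm_of hy hw hs (fun e => h2 e.symm) fun e => hn (hc w hw e).symm)
      exact hn (by simpa using (e.symm.inv_left.mul_left this).symm)⟩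
  rcases this with e | e
  · exact Or.inr (Or.inr (Or.inl (inv_mul_eq_one.1 e).symm))
  · exact Or.inr (Or.inr (Or.inr (inv_mul_eq_iff_eq_mul.1 e)))

theorem card_cent (h : ES Q z) (hA : A ≤ Q) (hz : z ∈ A) : #A * #(Q ⊓ C[A] : Subgroup G) = 2 * #Q := by
  have : Fact (Nat.Prime 2) := ⟨Nat.prime_two⟩
  have := h.isES.card_mul_card_centralizer h.center' (A := A.subgroupOf Q) hz
  rw [Nat.card_congr (subgroupOfEquivOfLe hA).toEquiv] at this
  rw [← this, ← Nat.card_congr (subgroupOfEquivOfLe (inf_le_left : Q ⊓ C[A] ≤ Q)).toEquiv]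
  congr 3
  ext x
  simp only [mem_subgroupOf, mem_inf, x.2, true_and, mem_centralizer_iff]
  exact ⟨fun h a ha => Subtype.ext (h a ha), fun h a ha => congrArg Subtype.val (h ⟨a, hA ha⟩ ha)⟩

theorem dperp (h : ES Q z) (hA : A ≤ Q) (hz : z ∈ A) : Q ⊓ C[Q ⊓ C[A]] = A := by
  have hz' : z ∈ Q ⊓ C[A] := ⟨h.zQ, fun a ha => (h.zc a (hA ha)).eq⟩
  have h1 := h.card_cent hA hz
  have h2 := h.card_cent inf_le_left hz'
  rw [← h1, mul_comm] at h2
  have h3 : A ≤ Q ⊓ C[Q ⊓ C[A]] := le_inf hA fun a ha y hy => ((mem_inf.1 hy).2 a ha).symm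
  exact (eq_of_le_of_card_ge h3
    (Nat.eq_of_mul_eq_mul_right Nat.card_pos h2).le).symm

/-- If `#Q > 8` the centralizer in `Q` of a non-central element is not abelian. -/
theorem nab_cent (h : ES Q z) (h8 : 8 < #Q) (hs : s ∈ Q) :
    ∃ a ∈ Q, ∃ b ∈ Q, Commute a s ∧ Commute b s ∧ ¬ Commute a b := by
  by_contra hn
  push Not at hn
  let V : Subgroup G := zpowers s ⊔ zpowers z
  have hV : V ≤ Q := sup_le (zpowers_le.2 hs) (zpowers_le.2 h.zQ)
  have h1 := h.card_cent hV (mem_sup_right (mem_zpowers z))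
  have sub : ((Q ⊓ C[V] : Subgroup G) : Set G) ⊆ {1, z, s, s * z} := fun x hx =>
    h.perp1 hs hx.1 fun y hy e => hn y hy x hx.1 e (hx.2 s (mem_sup_left (mem_zpowers s))).symm
  have h2 : #(Q ⊓ C[V] : Subgroup G) ≤ 4 :=
    (Set.ncard_le_ncard sub).trans (by
      have := Finset.card_le_four (a := (1 : G)) (b := z) (c := s) (d := s * z)
      rw [← Set.ncard_coe_finset] at this; simpa using this)
  have h3 : V ≤ Q ⊓ C[V] := le_inf hV (sup_le (zpowers_le.2 (le_cent1_iff.1 (sup_le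
    (zpowers_le.2 (mem_centralizer_singleton.2 (Commute.refl s)))
    (zpowers_le.2 (mem_centralizer_singleton.2 (h.zc s hs).symm)))))
    (zpowers_le.2 fun v hv => (h.zc v (hV hv)).eq))
  have h4 := card_le_of_le h3
  nlinarith

end ES

/-- Conditions (L1), (L2) of a large extraspecial subgroup. -/
structure LE (Q : Subgroup G) (z : G) : Prop extends ES Q z where
  cQ : ∀ x, (∀ y ∈ Q, Commute x y) → x = 1 ∨ x = z
  nQ : ∀ x, Commute x z → x ∈ N[Q]

namespace LE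

theorem mk' (h : ES Q z) (h2 : C[Q] ≤ zpowers z) (h3 : C1[z] ≤ N[Q]) : LE Q z :=
  ⟨h, fun x hx => (mem_zp h.z2).1 (h2 fun y hy => (hx y hy).eq.symm), fun x hx => h3 (mem_centralizer_singleton.2 hx)⟩

theorem of_ext (h1 : IsExtraspecial 2 Q) (h2 : C[Q] = (center Q).map Q.subtype)
    (h3 : C[(center Q).map Q.subtype] ≤ N[Q]) : ∃ z, LE Q z := by
  obtain ⟨z, hz⟩ := ES.of_ext h1
  rw [hz.center_eq] at h2 h3
  refine ⟨z, mk' hz h2.le (le_trans (fun x hx => mem_centralizer_iff.2 ?_) h3)⟩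
  rintro _ ⟨k, rfl⟩
  exact ((mem_centralizer_singleton.1 hx).zpow_right k).eq.symm

theorem of_large (h : IsLargeExtraspecial Q) (hz : (center Q).map Q.subtype = zpowers z) : LE Q z := by
  obtain ⟨w, hw⟩ := of_ext h.1 h.2.1 h.2.2.1
  have h2 := ES.of_center h.1 hz
  rcases h2.cen w hw.zQ fun y hy => (hw.zc y hy).symm with e | e
  · exact absurd e hw.z1
  · exact e ▸ hw

theorem conj (h : LE Q z) (g : G) : LE (cj g Q) (g * z * g⁻¹) where
  toES := h.toES.conj g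
  cQ x hx := by
    rcases h.cQ (g⁻¹ * x * g) fun y hy => by
      simpa [mul_assoc] using (hx _ (conj_mem_cj g hy)).map (MulAut.conj g⁻¹) with e | e
    · left; rw [← mul_inv_cancel_left g x, ← mul_inv_cancel_right (g⁻¹ * x) g, e]; simp
    · right; rw [← e]; group
  nQ x hx := by
    rw [N_cj, mem_cj]
    exact h.nQ _ (by simpa [mul_assoc] using hx.map (MulAut.conj g⁻¹))

theorem cj_eq (h : LE Q z) (e : x * z * x⁻¹ = g * z * g⁻¹) : cj x Q = cj g Q := by
  have : g⁻¹ * x ∈ N[Q] := h.nQ _ (cj_eq_iff_comm.1 (by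
    calc g⁻¹ * x * z * (g⁻¹ * x)⁻¹ = g⁻¹ * (x * z * x⁻¹) * g := by group
      _ = z := by rw [e]; group))
  rw [← mul_inv_cancel_left g x, cj_mul, cj_of_norm this]

theorem conj_mem (h : LE Q z) (hx : Commute x z) (hy : y ∈ Q) : x * y * x⁻¹ ∈ Q :=
  (mem_normalizer_iff.1 (h.nQ x hx) y).1 hy

theorem C_eq (h : LE Q z) : C[Q] = (center Q).map Q.subtype := by
  rw [h.center_eq]
  exact le_antisymm (fun x hx => (mem_zp h.z2).2 (h.cQ x fun y hy => (hx y hy).symm))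
    (zpowers_le.2 fun y hy => (h.zc y hy).eq)

theorem comm_of (hK : Odd #K) (hA : IsPGroup 2 A) {k a : G} (hk : k ∈ K) (ha : a ∈ A) (h1 : a ∈ N[K])
    (h2 : k ∈ N[A]) : Commute k a := by
  have m1 : a * k * a⁻¹ * k⁻¹ ∈ K := K.mul_mem ((mem_normalizer_iff.1 h1 k).1 hk) (K.inv_mem hk)
  have m2 : a * k * a⁻¹ * k⁻¹ ∈ A := by
    have := A.mul_mem ha ((mem_normalizer_iff.1 h2 a⁻¹).1 (A.inv_mem ha))
    simpa [mul_assoc] using this
  exact (cj_eq_iff_comm.1 (mul_inv_eq_one.1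
    (eq_one_of_odd_of_mem_isPGroup hA m2 (odd_orderOf_of_mem hK m1)))).symm

/-- `Q` is large as soon as `z` centralizes every `Q`-invariant subgroup of odd order. -/
theorem large_of (h : LE Q z) (hK : ∀ K : Subgroup G, Odd #K → Q ≤ N[K] → K ≤ C1[z]) : IsLargeExtraspecial Q := by
  refine ⟨h.isExtraspecial, h.C_eq, fun x hx => h.nQ x (hx z (h.center_eq ▸ mem_zpowers z)).symm,
    fun K ho hQ => eq_bot_iff.2 fun k hk => ?_⟩
  have h1 := h.nQ k (mem_centralizer_singleton.1 (hK K ho hQ hk))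
  rcases h.cQ k fun y hy => comm_of ho h.pg hk hy (hQ hy) h1 with e | e
  · exact e
  · have := odd_orderOf_of_mem ho hk
    rw [e, h.z2] at this; exact absurd this (by decide)

theorem large_of_inv (h : LE Q z) (hs : s ∈ Q) (s2 : s * s = 1) (h1 : s ≠ 1) (h2 : s ≠ z)
    (hK : ∀ K : Subgroup G, Odd #K → Q ≤ N[K] → K ⊓ C1[s] ≤ C1[z]) : IsLargeExtraspecial Q := by
  refine h.large_of fun K ho hQ => ?_
  obtain ⟨q, hq, e⟩ := h.exists_conj hs h1 h2
  let V : Subgroup G := zpowers s ⊔ zpowers z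
  have hV : V ≤ Q := sup_le (zpowers_le.2 hs) (zpowers_le.2 h.zQ)
  have h3 : V ≤ C[V] := sup_le (zpowers_le.2 (le_cent1_iff.1 (sup_le
    (zpowers_le.2 (mem_centralizer_singleton.2 (Commute.refl s)))
    (zpowers_le.2 (mem_centralizer_singleton.2 (h.zc s hs).symm)))))
    (zpowers_le.2 fun v hv => (h.zc v (hV hv)).eq)
  have mV : ∀ v ∈ V, v = 1 ∨ v = z ∨ v = s ∨ v = s * z := fun v hv => h.perp1 hs (hV hv) fun y hy e =>
    (show V ≤ C1[y] from sup_le (zpowers_le.2 (mem_centralizer_singleton.2 e.symm))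
      (zpowers_le.2 (mem_centralizer_singleton.2 (h.zc y hy).symm))) hv y rfl
  refine coprime_abelian_gen_cent1 (abelian_iff.2 h3) (fun hc => ?_) (hV.trans hQ) ?_ fun v hv v1 => ?_
  · obtain ⟨⟨w, hw⟩, hw'⟩ := hc.exists_generator
    have w2 : orderOf w = 2 ∨ w = 1 := by
      by_cases w1 : w = 1
      · exact Or.inr w1
      refine Or.inl (orderOf_two_iff.2 ⟨?_, w1⟩)
      rcases mV w hw with rfl | rfl | rfl | rfl
      exacts [one_mul _, h.zz, s2, by rw [(h.zc s hs).symm.mul_mul_mul_comm, s2, h.zz, one_mul]]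
    have k : ∀ v ∈ V, v ∈ zpowers w := fun v hv => by
      obtain ⟨k, hk⟩ := hw' ⟨v, hv⟩
      exact ⟨k, congrArg Subtype.val hk⟩
    have k1 := k s (mem_sup_left (mem_zpowers s))
    have k2 := k z (mem_sup_right (mem_zpowers z))
    rcases w2 with w2 | rfl
    · exact h2 ((((mem_zp w2).1 k1).resolve_left h1).trans (((mem_zp w2).1 k2).resolve_left h.z1).symm)
    · exact h1 (by simpa using k1)
  · obtain ⟨n, hn⟩ := (IsPGroup.iff_card (p := 2)).1 (h.pg.to_le hV)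
    rw [hn]; exact (Nat.coprime_two_right.2 ho).pow_right n
  rcases mV v hv with rfl | rfl | rfl | rfl
  · exact absurd rfl v1
  · exact inf_le_right
  · exact hK K ho hQ
  · have := cj_mono q (hK K ho hQ)
    rwa [cj_inf, ← C1_conj, ← C1_conj, e, cj_of_norm (hQ hq), cj_eq_iff_comm.2 (h.zc q hq)] at this

/-- The centralizer in `G` of `C_Q(s)` for a non-central involution `s` of `Q`. -/
theorem cent_A (h : LE Q z) (hs : s ∈ Q) (s2 : s * s = 1) (h1 : s ≠ 1) (h2 : s ≠ z)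
    (hc : ∀ y ∈ Q, Commute y s → Commute y x) : x = 1 ∨ x = z ∨ x = s ∨ x = s * z := by
  obtain ⟨q, hq, e⟩ := h.exists_conj hs h1 h2
  have nq := h.not_comm_of e
  have xz : Commute x z := (hc z h.zQ (h.zc s hs).symm).symm
  have hq' := h.conj_mem xz hq
  have split : ∀ c, (∀ y ∈ Q, Commute y s → Commute y c) → Commute q c → c = 1 ∨ c = z := fun c h3 h4 =>
    h.cQ c fun y hy => by
      by_cases e : Commute y s
      · exact (h3 y hy e).symm
      · have := h3 _ (mul_mem hq hy) (h.mul_comm_of hq hy hs nq e)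
        simpa using (h4.inv_left.mul_left this).symm
  have sq : ∀ w, x * q * x⁻¹ = q * w → Commute w z → w * w = 1 → q * w * q⁻¹ = w * z → False := fun w e1 c w2 e2 => by
    have e3 : x * (q * q) * x⁻¹ = q * q := by
      rcases h.sq q hq with e | e <;> rw [e]
      exacts [by simp, cj_eq_iff_comm.2 xz]
    have e4 : x * (q * q) * x⁻¹ = (x * q * x⁻¹) * (x * q * x⁻¹) := by group
    rw [e3, e1] at e4
    have e5 : q * w = w * q := by
      have : q * 1 = w * (q * w) := mul_left_cancel (a := q) (by rw [mul_one, e4]; group)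
      rw [← mul_self_cancel w2 (q * w), ← this, mul_one]
    exact h.not_comm_of e2 e5
  have := h.perp1 hs (mul_mem (inv_mem hq) hq') fun y hy e => (h.comm_of_iff hq hq' hy (by
    have c := cj_eq_iff_comm.2 (hc y hy e).symm
    refine ⟨fun h3 => ?_, fun h3 => ?_⟩
    · have := h3.map (MulAut.conj x); rwa [MulAut.conj_apply, MulAut.conj_apply, c] at this
    · rw [← c] at h3; simpa [mul_assoc] using h3.map (MulAut.conj x⁻¹))).symm
  rcases this with e1 | e1 | e1 | e1 <;> rw [inv_mul_eq_iff_eq_mul] at e1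
  · rcases split x hc (cj_eq_iff_comm.1 (by rw [e1, mul_one])).symm with e | e <;> simp [e]
  · have e2 := h.conj_of_not hs hq fun e => nq e.symm
    rcases split (s⁻¹ * x) (fun y hy e => e.inv_right.mul_right (hc y hy e)) (cj_eq_iff_comm.1 (by
      calc s⁻¹ * x * q * (s⁻¹ * x)⁻¹ = s⁻¹ * (x * q * x⁻¹) * s := by group
        _ = q := by rw [e1, ← e2]; group)).symm with e | e <;> rw [inv_mul_eq_iff_eq_mul] at e <;> simp [e]
  · exact (sq s e1 (h.zc s hs) s2 e).elim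
  · exact (sq _ e1 ((h.zc s hs).mul_left (Commute.refl z))
      (by rw [(h.zc s hs).symm.mul_mul_mul_comm, s2, h.zz, one_mul]) (by
        calc q * (s * z) * q⁻¹ = q * s * q⁻¹ * (q * z * q⁻¹) := by group
          _ = _ := by rw [e, cj_eq_iff_comm.2 (h.zc q hq)])).elim

/-- Orthogonality of conjugates of `z` is symmetric. -/
theorem sym' (h : LE Q z) (hs : g * z * g⁻¹ ∈ Q) {a b : G} (ha : a ∈ Q) (hb : b ∈ Q)
    (as : Commute a (g * z * g⁻¹)) (bs : Commute b (g * z * g⁻¹)) (ab : ¬ Commute a b) : z ∈ cj g Q := by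
  by_contra hz
  have h1 := h.conj g
  set s := g * z * g⁻¹ with hs'
  set P := cj g Q with hP
  have sz : s ≠ z := fun e => hz (e ▸ h1.zQ)
  have zs : Commute z s := (h.zc s hs).symm
  obtain ⟨q, hq, eq⟩ := h.exists_conj hs h1.z1 sz
  have hii : ∀ v ∈ P, v * z * v⁻¹ * z⁻¹ = 1 ∨ v * z * v⁻¹ * z⁻¹ = s → Commute v z := by
    rintro v hv (e | e)
    · exact cj_eq_iff_comm.1 (mul_inv_eq_one.1 e)
    have e1 : v * z * v⁻¹ = s * z := mul_inv_eq_iff_eq_mul.1 e
    have e2 := cj_eq_iff_comm.2 (h1.zc v hv)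
    have e3 := cj_eq_iff_comm.2 (h.zc q hq)
    have e4 : v * q * v * z * (v * q * v)⁻¹ = s := by
      calc _ = v * (q * (v * z * v⁻¹) * q⁻¹) * v⁻¹ := by group
        _ = v * (q * s * q⁻¹ * (q * z * q⁻¹)) * v⁻¹ := by rw [e1]; group
        _ = s := by rw [eq, e3, mul_self_cancel' h.zz, e2]
    have e5 : v * q * v * s * (v * q * v)⁻¹ = z := by
      calc _ = v * (q * (v * s * v⁻¹) * q⁻¹) * v⁻¹ := by group
        _ = v * s * v⁻¹ * (v * z * v⁻¹) := by rw [congrArg (fun t => v * (q * t * q⁻¹) * v⁻¹) e2, eq]; group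
        _ = z := by rw [e1, e2, mul_self_cancel h1.zz]
    exact absurd (by rw [hP, ← h.cj_eq e4, ← e5]; exact conj_mem_cj _ hs) hz
  have hE : ∀ e ∈ Q, e ∈ P → e = 1 ∨ e = s := fun e he he' => by
    rcases h.perp1 hs he fun y hy c => cj_eq_iff_comm.1 ((h.comm y hy e he).resolve_right fun e1 =>
      hz ((mul_mem_cancel_left he').1 (e1 ▸ h1.conj_mem c he'))) with e1 | e1 | e1 | e1
    · exact Or.inl e1
    · exact absurd (e1 ▸ he') hz
    · exact Or.inr e1
    · exact absurd ((mul_mem_cancel_left h1.zQ).1 (e1 ▸ he')) hz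
  have hW : ∀ a ∈ Q, Commute a s → ∀ w ∈ P, Commute w z → a * w * a⁻¹ = w ∨ a * w * a⁻¹ = s * w :=
    fun a ha c w hw c' => by
      have := hE (a * w * a⁻¹ * w⁻¹) (by simpa [mul_assoc] using mul_mem ha (h.conj_mem c' (inv_mem ha)))
        (mul_mem (h1.conj_mem c hw) (inv_mem hw))
      simpa [mul_inv_eq_iff_eq_mul] using this
  have hd : ∀ y ∈ P, Commute (y⁻¹ * (z * y * z⁻¹)) z := fun y hy => by
    have m := mul_mem (inv_mem hy) (h1.conj_mem zs hy)
    refine hii _ m ?_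
    have : y⁻¹ * (z * y * z⁻¹) * z * (y⁻¹ * (z * y * z⁻¹))⁻¹ * z⁻¹ = y⁻¹ * (z * y * z⁻¹) * (y⁻¹ * (z * y * z⁻¹)) := by
      rw [inv_eq_of h.z2]; simp [mul_assoc, inv_eq_of h.z2, mul_self_cancel h.zz, h.zz]
    rw [this]; exact h1.sq _ m
  have hu : ∀ a ∈ Q, Commute a s → ∀ v ∈ P, Commute (v⁻¹ * (a * v * a⁻¹)) z := fun a ha c v hv => by
    have hv' := h1.conj_mem c hv
    have m := mul_mem (inv_mem hv) hv'
    set u := v⁻¹ * (a * v * a⁻¹)
    have k1 : ∀ w ∈ P, Commute w z → Commute u w := fun w hw c' => h1.comm_of_iff hv hv' hw (by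
      have c2 := (h1.zc v hv)
      have c3 := (h1.zc _ hv')
      refine ⟨fun e => ?_, fun e => ?_⟩
      · have := e.map (MulAut.conj a)
        simp only [MulAut.conj_apply] at this
        rcases hW a ha c w hw c' with e1 | e1 <;> rw [e1] at this
        exacts [this, by simpa using c3.inv_right.mul_right this]
      · have := e.map (MulAut.conj a⁻¹)
        simp only [MulAut.conj_apply] at this
        rw [show a⁻¹ * (a * v * a⁻¹) * a⁻¹⁻¹ = v by group] at this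
        rcases hW _ (inv_mem ha) c.inv_left w hw c' with e1 | e1 <;> rw [e1] at this
        exacts [this, by simpa using c2.inv_right.mul_right this])
    have m' := h1.conj_mem zs m
    have := h1.cen _ (mul_mem (inv_mem m') m) fun y hy => h1.comm_of_iff m' m hy (by
      have k2 := k1 _ (mul_mem (inv_mem hy) (h1.conj_mem zs hy)) (hd y hy)
      refine ⟨fun e => ?_, fun e => ?_⟩
      · have := e.map (MulAut.conj z)
        simp only [MulAut.conj_apply] at this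
        rw [show z * (z * u * z⁻¹) * z⁻¹ = z * z * u * (z * z)⁻¹ by group, h.zz] at this
        have := (by simpa using this : Commute u (z * y * z⁻¹)).mul_right k2.inv_right
        rwa [show z * y * z⁻¹ * (y⁻¹ * (z * y * z⁻¹))⁻¹ = y by group] at this
      · have := (e.mul_right k2).map (MulAut.conj z)
        simp only [MulAut.conj_apply] at this
        rwa [show z * (y * (y⁻¹ * (z * y * z⁻¹))) * z⁻¹ = z * z * y * (z * z)⁻¹ by group, h.zz, one_mul, inv_one,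
          mul_one] at this)
    refine (Commute.inv_left_iff.1 (hii _ (inv_mem m) ?_))
    have e : u⁻¹ * z * u⁻¹⁻¹ * z⁻¹ = ((z * u * z⁻¹)⁻¹ * u)⁻¹ := by group
    rw [e]
    rcases this with e1 | e1 <;> rw [e1]
    exacts [Or.inl inv_one, Or.inr (inv_eq_of h1.z2)]
  have eab : a * b = z * (b * a) := by
    rw [← mul_assoc, ← (h.zc b hb).eq, ← h.conj_of_not ha hb ab]; group
  have : ∀ y ∈ P, Commute z y := fun y hy => by
    set v := (b * a)⁻¹ * y * (b * a)⁻¹⁻¹ with hv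
    have vP : v ∈ P := h1.conj_mem (bs.mul_left as).inv_left hy
    have ua := hu a ha as v vP
    have ub := hu b hb bs v vP
    have ma := mul_mem (inv_mem vP) (h1.conj_mem as vP)
    have mb := mul_mem (inv_mem vP) (h1.conj_mem bs vP)
    set u := v⁻¹ * (a * v * a⁻¹) with hu'
    set w := v⁻¹ * (b * v * b⁻¹) with hw'
    have e1 : y = v * w * (b * u * b⁻¹) := by rw [hw', hu', hv]; group
    have e2 : z * y * z⁻¹ = v * u * (a * w * a⁻¹) := by
      calc z * y * z⁻¹ = z * (b * a) * v * (z * (b * a))⁻¹ := by rw [hv]; group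
        _ = _ := by rw [← eab, hw', hu']; group
    have e3 : y⁻¹ * z * y⁻¹⁻¹ * z⁻¹ = (b * u * b⁻¹)⁻¹ * w⁻¹ * u * (a * w * a⁻¹) := by
      calc _ = y⁻¹ * (z * y * z⁻¹) := by group
        _ = _ := by rw [e2, e1]; group
    refine (Commute.inv_left_iff.1 (hii _ (inv_mem hy) ?_)).symm
    rw [← mem_zp h1.z2, e3]
    have n : ∀ x ∈ P, ∀ c ∈ zpowers s, x⁻¹ * c * x = c := fun x hx c hc => by
      rcases (mem_zp h1.z2).1 hc with rfl | rfl
      exacts [by simp, by rw [mul_assoc, ← (h1.zc x hx).eq]; simp]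
    obtain ⟨c1, m1, f1⟩ : ∃ c ∈ zpowers s, b * u * b⁻¹ = c * u := by
      rcases hW b hb bs u ma ua with e | e
      exacts [⟨1, one_mem _, by simp [e]⟩, ⟨s, mem_zpowers s, e⟩]
    obtain ⟨c2, m2, f2⟩ : ∃ c ∈ zpowers s, a * w * a⁻¹ = c * w := by
      rcases hW a ha as w mb ub with e | e
      exacts [⟨1, one_mem _, by simp [e]⟩, ⟨s, mem_zpowers s, e⟩]
    obtain ⟨c3, m3, f3⟩ : ∃ c ∈ zpowers s, u⁻¹ * w⁻¹ * u⁻¹⁻¹ = w⁻¹ * c := by
      rcases h1.comm _ (inv_mem ma) _ (inv_mem mb) with e | e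
      exacts [⟨1, one_mem _, by simp only [e, mul_one]⟩, ⟨s, mem_zpowers s, e⟩]
    have : (b * u * b⁻¹)⁻¹ * w⁻¹ * u * (a * w * a⁻¹) = (u⁻¹ * c1⁻¹ * u) * (w⁻¹ * (c3 * c2) * w) := by
      calc _ = (u⁻¹ * c1⁻¹ * u) * ((u⁻¹ * w⁻¹ * u⁻¹⁻¹) * c2 * w) := by rw [f1, f2]; group
        _ = _ := by rw [f3]; group
    rw [this, n u ma _ (inv_mem m1), n w mb _ (mul_mem m3 m2)]
    exact mul_mem (inv_mem m1) (mul_mem m3 m2)
  rcases h1.cQ z this with e | e
  exacts [h.z1 e, sz e.symm]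

theorem sym (h : LE Q z) (h8 : 8 < #Q) (hs : g * z * g⁻¹ ∈ Q) : z ∈ cj g Q := by
  obtain ⟨a, ha, b, hb, h1, h2, h3⟩ := h.nab_cent h8 hs
  exact h.sym' hs ha hb h1 h2 h3

/-- If a conjugate `s ≠ z` of `z` lies in `Q` and `z ∈ Q_s`, then `Q` is large. -/
theorem large_of_conj (h : LE Q z) (hs : g * z * g⁻¹ ∈ Q) (hne : g * z * g⁻¹ ≠ z) (hz : z ∈ cj g Q) :
    IsLargeExtraspecial Q :=
  h.large_of_inv hs (h.conj g).zz (h.conj g).z1 hne fun K ho hQ k hk => mem_centralizer_singleton.2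
    (comm_of ho (h.conj g).pg hk.1 hz (hQ h.zQ) ((h.conj g).nQ k (mem_centralizer_singleton.1 hk.2)))

end LE

end Cfsg.Agent.LES
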