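import Cfsg.Agent.LES.Core
import Cfsg.Agent.Geom.Std
import Cfsg.Agent.Geom.Split

/-! The holomorph of an elementary abelian 2-group: `aut_GL`, `aut_of_transv`, `exists_transv`, `holo`
(`C(z) = 2^{1+2n} : GLₙ(2)` when `C(z) ≤ U : GL(U)`). -/

set_option autoImplicit false
set_option linter.unusedSectionVars false
set_option linter.unusedVariables false

namespace Cfsg.Agent.LES

open Subgroup Cfsg.Agent.BG Cfsg.Agent.Invol Cfsg.Agent.Sig
open scoped _root_.Classical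

variable {G : Type*} [Group G] [Finite G] {Q U W L M A : Subgroup G} {z s x y g u : G} {n : ℕ}

theorem aut_GL' {p : ℕ} [Fact p.Prime] {V : Type*} [CommGroup V] [Finite V] (inst : Module (ZMod p) (Additive V))
    (hc : Nat.card V = p ^ n) : Nonempty (MulAut V ≃* GL (Fin n) (ZMod p)) := by
  have hr : Module.finrank (ZMod p) (Additive V) = n := by
    have := Module.natCard_eq_pow_finrank (K := ZMod p) (V := Additive V)
    rw [Nat.card_zmod, show Nat.card (Additive V) = p ^ n from hc] at this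
    exact (Nat.pow_right_injective (Fact.out : p.Prime).two_le this).symm
  let e : MulAut V ≃* (Additive V ≃ₗ[ZMod p] Additive V) :=
    { toFun := fun a => { MulEquiv.toAdditive a with map_smul' := ZMod.map_smul (MulEquiv.toAdditive a) }
      invFun := fun e => MulEquiv.toAdditive.symm e.toAddEquiv
      left_inv := fun _ => rfl
      right_inv := fun _ => LinearEquiv.ext fun _ => rfl
      map_mul' := fun _ _ => rfl }
  exact ⟨e.trans ((Geom.autCongr (Module.finBasisOfFinrankEq _ _ hr).equivFun).trans (Geom.glEquiv _ _).symm)⟩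

theorem aut_GL'' {p : ℕ} [Fact p.Prime] {V : Type*} [CommGroup V] [Finite V] (hV : ∀ v : V, v ^ p = 1)
    (hc : Nat.card V = p ^ n) : Nonempty (MulAut V ≃* GL (Fin n) (ZMod p)) := by
  let inst : Module (ZMod p) (Additive V) := AddCommGroup.zmodModule fun x => by
    apply Additive.toMul.injective
    rw [toMul_nsmul, hV, toMul_zero]
  exact aut_GL' inst hc

theorem aut_GL {p : ℕ} [Fact p.Prime] (hW : Abelem p W) (hc : #W = p ^ n) :
    Nonempty (MulAut W ≃* GL (Fin n) (ZMod p)) :=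
  @aut_GL'' n p _ W { (inferInstance : Group W) with mul_comm := hW.abelian.is_comm.comm } _
    (fun x => Subtype.ext (hW.pow x.2)) hc

theorem abelian_of_sq (h2 : ∀ u ∈ W, u * u = 1) : IsMulCommutative W := ⟨⟨fun a b => Subtype.ext
  (commute_of_mul_sq (h2 _ a.2) (h2 _ b.2) (h2 _ (mul_mem a.2 b.2))).eq⟩⟩

/-- A group inducing all transvections induces all automorphisms. -/
theorem aut_of_transv (h2 : ∀ u ∈ W, u * u = 1) (hN : L ≤ N[W])
    (h : ∀ A ≤ W, ∀ c ∈ A, ∀ a ∈ W, a ∉ A → ∃ y ∈ L, y ∈ C[A] ∧ y * a * y⁻¹ = a * c) (φ : W ≃* W) :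
    ∃ g ∈ L, ∀ x : W, g * x.1 * g⁻¹ = φ x := by
  obtain ⟨V, ⟨g, hg, hV⟩, hm⟩ := (Set.toFinite {V : Subgroup W | ∃ g ∈ L, ∀ w ∈ V, g * w.1 * g⁻¹ = φ w}).exists_maximal
    ⟨⊥, 1, one_mem _, fun w hw => by rw [mem_bot.1 hw]; simp⟩
  refine ⟨g, hg, fun x => ?_⟩
  by_contra hx
  have xV : x ∉ V := fun m => hx (hV x m)
  have aU : g * x * g⁻¹ ∈ W := (mem_normalizer_iff.1 (hN hg) _).1 x.2
  set a := g * x * g⁻¹ with ha
  have m : a * φ x ∈ W := mul_mem aU (φ x).2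
  have m1 : a * φ x ≠ 1 := fun e => hx (by rw [← inv_eq_of_mul_self (h2 a aU), inv_eq_of_mul_eq_one_right e])
  have ab := abelian_of_sq h2
  let A := ((V.map φ.toMonoidHom).map W.subtype) ⊔ zpowers (a * φ x)
  have aA : a ∉ A := fun hA => by
    obtain ⟨_, ⟨_, ⟨w, hw, rfl⟩, rfl⟩, c, hc, e⟩ := (mem_sup_normr (le_trans (map_subtype_le _)
      (sub_abelian_norm ab (zpowers_le.2 m)))).1 hA
    rcases (mem_zp (orderOf_two_iff.2 ⟨h2 _ m, m1⟩)).1 hc with rfl | rfl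
    · refine xV ?_
      have : g * x * g⁻¹ = g * w * g⁻¹ := by rw [hV w hw, ← ha, e]; simp
      rwa [show x = w from Subtype.ext (by simpa using this)]
    · have e' : (φ w).1 * φ x = 1 := by
        have e1 : a * 1 = a * ((φ w).1 * φ x) := by
          rw [mul_one, ← mul_assoc, IsMulCommutative.comm ab aU (φ w).2, mul_assoc]; exact e
        exact (mul_left_cancel e1).symm
      have : φ (w * x) = 1 := Subtype.ext (by simpa using e')
      rw [EmbeddingLike.map_eq_one_iff] at this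
      exact xV (by rw [eq_inv_of_mul_eq_one_right this]; exact inv_mem hw)
  obtain ⟨y, hy, yc, e⟩ := h A (sup_le (map_subtype_le _) (zpowers_le.2 m)) _ (mem_sup_right (mem_zpowers _)) a aU aA
  rw [mul_self_cancel (h2 a aU)] at e
  let S : Subgroup W := MonoidHom.eqLocus ((MulAut.conj (y * g)).toMonoidHom.comp W.subtype)
    (W.subtype.comp φ.toMonoidHom)
  have mS : ∀ w, w ∈ S ↔ y * (g * w.1 * g⁻¹) * y⁻¹ = φ w := fun w => by
    rw [show y * (g * w.1 * g⁻¹) * y⁻¹ = y * g * w * (y * g)⁻¹ by group]; rfl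
  have WS : V ≤ S := fun w hw => (mS w).2 (by
    rw [hV w hw]; exact cj_eq_iff_comm.2 (yc _ (mem_sup_left ⟨_, ⟨w, hw, rfl⟩, rfl⟩)).symm)
  exact xV (hm ⟨y * g, mul_mem hy hg, fun w hw => hw⟩ WS ((mS x).2 e))

theorem exists_transv (h2 : ∀ u ∈ U, u * u = 1) (hA : A ≤ U) {c a : G} (hc : c ∈ A) (ha : a ∈ U) (hn : a ∉ A) :
    ∃ φ : U ≃* U, (∀ x : U, (φ x).1 = x ∨ (φ x).1 = x * c) ∧ (∀ x : U, x.1 ∈ A → φ x = x) ∧ (φ ⟨a, ha⟩).1 = a * c := by
  have ab := abelian_of_sq h2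
  obtain ⟨H, ⟨h1, h3, h4⟩, hm⟩ := (Set.toFinite {H : Subgroup G | A ≤ H ∧ H ≤ U ∧ a ∉ H}).exists_maximal
    ⟨A, le_rfl, hA, hn⟩
  have k : ∀ x ∈ U, x ∉ H → x * a ∈ H := fun x hx hxH => by
    have : a ∈ H ⊔ zpowers x := by
      by_contra hn
      exact hxH (hm ⟨h1.trans le_sup_left, sup_le h3 (zpowers_le.2 hx), hn⟩ le_sup_left
        (mem_sup_right (mem_zpowers x)))
    obtain ⟨b, hb, y, hy, e⟩ := (mem_sup_normr (h3.trans (sub_abelian_norm ab (zpowers_le.2 hx)))).1 this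
    rcases (mem_zp (orderOf_two_iff.2 ⟨h2 x hx, fun e => hxH (e ▸ one_mem _)⟩)).1 hy with rfl | rfl
    · exact absurd (by simpa [e] using hb) h4
    · rwa [e, IsMulCommutative.comm ab hx (mul_mem (h3 hb) hx), mul_self_cancel' (h2 _ hx)]
  have k2 : ∀ x ∈ U, ∀ y ∈ U, x ∉ H → y ∉ H → x * y ∈ H := fun x hx y hy h5 h6 => by
    have := mul_mem (k x hx h5) (k y hy h6)
    rwa [IsMulCommutative.comm ab hy ha, mul_assoc, mul_self_cancel (h2 a ha)] at this
  let c' : U := ⟨c, hA hc⟩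
  have cc : c' * c' = 1 := Subtype.ext (h2 c (hA hc))
  have cm : ∀ x y : U, x * y = y * x := ab.is_comm.comm
  let f : U → U := fun x => if x.1 ∈ H then x else x * c'
  have inv : Function.Involutive f := fun x => by
    by_cases hx : x.1 ∈ H
    · simp [f, hx]
    · have : (x * c').1 ∉ H := fun m => hx ((mul_mem_cancel_right (h1 hc)).1 m)
      simp only [f, if_neg hx, if_neg this, mul_self_cancel' cc]
  refine ⟨{ inv.toPerm with map_mul' := fun x y => ?_ }, fun x => ?_, fun x hx => if_pos (h1 hx),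
    congrArg Subtype.val (if_neg h4 : f ⟨a, ha⟩ = _)⟩
  · show f (x * y) = f x * f y
    by_cases hx : x.1 ∈ H <;> by_cases hy : y.1 ∈ H
    · simp only [f, if_pos hx, if_pos hy, if_pos (show (x * y).1 ∈ H from mul_mem hx hy)]
    · simp only [f, if_pos hx, if_neg hy, if_neg (show (x * y).1 ∉ H from fun m => hy ((mul_mem_cancel_left hx).1 m)),
        mul_assoc]
    · simp only [f, if_neg hx, if_pos hy, if_neg (show (x * y).1 ∉ H from fun m => hx ((mul_mem_cancel_right hy).1 m)),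
        mul_assoc, cm c' y]
    · simp only [f, if_neg hx, if_neg hy, if_pos (show (x * y).1 ∈ H from k2 _ x.2 _ y.2 hx hy)]
      rw [cm y c', mul_assoc, mul_self_cancel cc]
  · show (f x).1 = x ∨ (f x).1 = x * c
    by_cases hx : x.1 ∈ H <;> simp [f, hx, c']

theorem comm_of_sq_mem (hz : Q ≤ C1[z]) (h : ∀ a ∈ Q, a * a ∈ zpowers z) {a b : G} (ha : a ∈ Q) (hb : b ∈ Q) :
    b * a * b⁻¹ * a⁻¹ ∈ zpowers z := by
  have := mul_mem (mul_mem (h _ (mul_mem ha hb)) (inv_mem (h b hb))) (inv_mem (h a ha))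
  rw [show a * b * (a * b) * (b * b)⁻¹ * (a * a)⁻¹ = a * (b * a * b⁻¹ * a⁻¹) * a⁻¹ by group] at this
  exact (mem_normalizer_iff.1 (cent1_le_norm_zpowers z (hz ha)) _).2 this

theorem holo (hn : 1 ≤ n) (hU : Abelem 2 U) (hc : #U = 2 ^ (n + 1)) (hM : M ≤ N[U]) (zU : z ∈ U) (z1 : z ≠ 1)
    (hC : C1[z] ≤ U ⊔ M) (hf : ∀ m ∈ M, (∀ u ∈ U, m * u * m⁻¹ = u) → m = 1)
    (hfull : ∀ φ : U ≃* U, ∃ m ∈ M, ∀ u : U, (φ u).1 = m * u * m⁻¹) :
    LE (pcIn 2 C1[z]) z ∧ #(pcIn 2 C1[z]) = 2 ^ (2 * n + 1) ∧ U ≤ pcIn 2 C1[z] ∧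
      (∀ u ∈ U, u ≠ 1 → ∃ g : G, g * z * g⁻¹ = u) ∧ ∃ K ≤ C1[z], pcIn 2 C1[z] ⊓ K = ⊥ ∧
      pcIn 2 C1[z] ⊔ K = C1[z] ∧ Nonempty (K ≃* GL (Fin n) (ZMod 2)) := by
  have : Fact (Nat.Prime 2) := ⟨Nat.prime_two⟩
  have h2 : ∀ u ∈ U, u * u = 1 := fun u hu => pow_two u ▸ hU.pow hu
  have o : orderOf z = 2 := orderOf_two_iff.2 ⟨h2 z zU, z1⟩
  have ab := hU.abelian
  have cm : ∀ a ∈ U, ∀ b ∈ U, Commute a b := fun a ha b hb => IsMulCommutative.comm ab ha hb
  have Uz : U ≤ C1[z] := fun u hu => mem_centralizer_singleton.2 (cm u hu z zU)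
  have nU : C1[z] ≤ N[U] := hC.trans (sup_le (normG U) hM)
  have dec : ∀ x ∈ C1[z], ∃ u ∈ U, ∃ m ∈ M ⊓ C1[z], x = u * m := fun x hx => by
    obtain ⟨u, hu, m, hm, rfl⟩ := (mem_sup_norml hM).1 (hC hx)
    exact ⟨u, hu, m, ⟨hm, (mul_mem_cancel_left (Uz hu)).1 hx⟩, rfl⟩
  have cU : ∀ x, (∀ u ∈ U, Commute x u) → x ∈ U := fun x hx => by
    obtain ⟨u, hu, m, hm, rfl⟩ := dec x (mem_centralizer_singleton.2 (hx z zU))
    rwa [hf m hm.1 fun v hv => cj_eq_iff_comm.2 (by simpa using (cm u hu v hv).inv_left.mul_left (hx v hv)), mul_one]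
  have tv : ∀ A ≤ U, ∀ c ∈ A, ∀ a ∈ U, a ∉ A → ∃ m ∈ M, (∀ x ∈ U, m * x * m⁻¹ = x ∨ m * x * m⁻¹ = x * c) ∧
      m ∈ C[A] ∧ m * a * m⁻¹ = a * c := fun A hA c hc a ha hn => by
    obtain ⟨φ, k1, k2, k3⟩ := exists_transv h2 hA hc ha hn
    obtain ⟨m, hm, e⟩ := hfull φ
    exact ⟨m, hm, fun x hx => e ⟨x, hx⟩ ▸ k1 ⟨x, hx⟩, fun x hx => (cj_eq_iff_comm.1
      ((e ⟨x, hA hx⟩).symm.trans (congrArg Subtype.val (k2 _ hx)))).symm, (e _).symm.trans k3⟩
  set Q := commSub (zpowers z) U with hQ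
  have mQ : ∀ x, x ∈ Q ↔ Commute x z ∧ ∀ u ∈ U, x * u * x⁻¹ = u ∨ x * u * x⁻¹ = u * z := fun x => by
    refine and_congr ⟨fun h => cj_eq_iff_comm.1 (((mem_zp o).1 ((mem_normalizer_iff.1 h z).1
      (mem_zpowers z))).resolve_left (by simpa using z1)), fun h => cent1_le_norm_zpowers z
      (mem_centralizer_singleton.2 h)⟩ (forall₂_congr fun u hu => ?_)
    rw [mem_zp o, mul_inv_eq_one, mul_inv_eq_iff_eq_mul (b := u), (cm u hu z zU).eq]
  have UQ : U ≤ Q := fun u hu => (mQ u).2 ⟨cm u hu z zU, fun v hv => Or.inl (cj_eq_iff_comm.2 (cm u hu v hv))⟩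
  have Qz : Q ≤ C1[z] := fun x hx => mem_centralizer_singleton.2 ((mQ x).1 hx).1
  have zz : zpowers z ≤ U := zpowers_le.2 zU
  have tz : ∀ a ∈ U, a ∉ zpowers z → ∃ m ∈ Q, ¬ Commute m a := fun a ha hn => by
    obtain ⟨m, -, k1, k2, k3⟩ := tv _ zz z (mem_zpowers z) a ha hn
    exact ⟨m, (mQ m).2 ⟨(k2 z (mem_zpowers z)).symm, k1⟩, fun c => z1 (by
      rw [cj_eq_iff_comm.2 c] at k3; simpa using k3.symm)⟩
  have sq : ∀ x ∈ Q, x * x ∈ zpowers z := fun x hx => by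
    obtain ⟨u, hu, m, hm, rfl⟩ := dec x (Qz hx)
    obtain ⟨k1, k2⟩ := (mQ m).1 ((mul_mem_cancel_left (UQ hu)).1 hx)
    have : m * m = 1 := hf _ (mul_mem hm.1 hm.1) fun v hv => by
      rw [show m * m * v * (m * m)⁻¹ = m * (m * v * m⁻¹) * m⁻¹ by group]
      rcases k2 v hv with e | e
      · rw [e, e]
      · rw [e, show m * (v * z) * m⁻¹ = m * v * m⁻¹ * (m * z * m⁻¹) by group, e, cj_eq_iff_comm.2 k1,
          mul_self_cancel' (h2 z zU)]
    rw [show u * m * (u * m) = u * (m * u * m⁻¹) * (m * m) by group, this, mul_one, mem_zp o]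
    rcases k2 u hu with e | e <;> rw [e] <;> simp [h2 u hu, mul_self_cancel (h2 u hu)]
  have cQ : ∀ x, (∀ y ∈ Q, Commute x y) → x = 1 ∨ x = z := fun x hx => by
    by_contra hn
    obtain ⟨m, hm, k⟩ := tz x (cU x fun u hu => hx u (UQ hu)) (by rwa [mem_zp o])
    exact k (hx m hm).symm
  obtain ⟨u, hu, uz⟩ : ∃ u ∈ U, u ∉ zpowers z := by
    by_contra hn
    push Not at hn
    have := card_le_of_le (show U ≤ zpowers z from hn)
    rw [hc, Nat.card_zpowers, o] at this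
    have := Nat.pow_le_pow_right two_pos (show 2 ≤ n + 1 by omega); omega
  have nQ : C1[z] ≤ N[Q] := fun c hc => mem_norm_of_cj_le fun _ hx' => by
    obtain ⟨x, hx, rfl⟩ := mem_cj'.1 hx'
    refine ⟨mul_mem (mul_mem (cent1_le_norm_zpowers z hc) hx.1) (inv_mem (cent1_le_norm_zpowers z hc)), fun v hv => ?_⟩
    have := (mem_normalizer_iff.1 (cent1_le_norm_zpowers z hc) _).1
      (hx.2 _ ((mem_normalizer_iff.1 (nU (inv_mem hc)) v).1 hv))
    rwa [show c * (x * (c⁻¹ * v * c⁻¹⁻¹) * x⁻¹ * (c⁻¹ * v * c⁻¹⁻¹)⁻¹) * c⁻¹ =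
      c * x * c⁻¹ * v * (c * x * c⁻¹)⁻¹ * v⁻¹ by group] at this
  have hL : LE Q z := ⟨⟨o, UQ zU, fun y hy => ((mQ y).1 hy).1, fun x _ => cQ x, fun x hx y hy => by
      have := (mem_zp o).1 (comm_of_sq_mem Qz sq hy hx)
      rwa [mul_inv_eq_one, mul_inv_eq_iff_eq_mul (b := y), ← ((mQ y).1 hy).1.eq] at this,
    fun x hx => (mem_zp o).1 (sq x hx), by obtain ⟨m, hm, k⟩ := tz u hu uz; exact ⟨m, hm, u, UQ hu, k⟩⟩, cQ,
    fun x hx => nQ (mem_centralizer_singleton.2 hx)⟩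
  have mov : ∀ a ∈ U, ∀ b ∈ U, a ∉ zpowers z → b ∉ zpowers z → ∃ m ∈ C1[z], m * a * m⁻¹ = b := fun a ha b hb h3 h4 => by
    by_cases e : a = b
    · exact ⟨1, one_mem _, by simp [e]⟩
    have ab1 : a * b ≠ 1 := fun e' => e (by rw [← inv_eq_of_mul_self (h2 a ha), inv_eq_of_mul_eq_one_right e'])
    obtain ⟨m, -, -, k2, k3⟩ := tv (zpowers z ⊔ zpowers (a * b)) (sup_le zz (zpowers_le.2 (mul_mem ha hb))) _
      (mem_sup_right (mem_zpowers _)) a ha fun m => by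
        obtain ⟨x, hx, y, hy, e⟩ := (mem_sup_normr (zz.trans (sub_abelian_norm ab (zpowers_le.2 (mul_mem ha hb))))).1 m
        rcases (mem_zp (orderOf_two_iff.2 ⟨h2 _ (mul_mem ha hb), ab1⟩)).1 hy with rfl | rfl
        · exact h3 (by simpa [e] using hx)
        · rw [← mul_assoc, (cm x (zz hx) a ha).eq, mul_assoc, left_eq_mul] at e
          exact h4 (by rw [eq_inv_of_mul_eq_one_right e]; exact inv_mem hx)
    exact ⟨m, mem_centralizer_singleton.2 (k2 z (mem_sup_left (mem_zpowers z))).symm,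
      by rw [k3, mul_self_cancel (h2 a ha)]⟩
  have QO : Q ≤ pcIn 2 C1[z] := le_pcIn Qz nQ hL.pg
  have eQ : pcIn 2 C1[z] = Q := le_antisymm (fun x hx => by
    have nz := (show zpowers z ⊴ C1[z] from ⟨zz.trans Uz, cent1_le_norm_zpowers z⟩).subgroupOf
    let π := QuotientGroup.mk' ((zpowers z).subgroupOf C1[z])
    have k1 : ∀ x : C1[z], π x = 1 ↔ x.1 ∈ zpowers z := fun x => QuotientGroup.eq_one_iff x
    obtain ⟨_, ⟨w, hw, rfl⟩, k2, k3, -⟩ := exists_center_p (N := (U.subgroupOf C1[z]).map π)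
      (((isPGroup_pcIn (p := 2) (K := C1[z])).comap_subtype (K := C1[z])).map π)
      (normal_map π ⟨fun y hy => QO (UQ hy), fun y _ => mem_normalizer_iff.2 fun v => mem_normalizer_iff.1 (nU y.2) v⟩)
      fun e => uz ((k1 ⟨u, Uz hu⟩).1 (mem_bot.1 (e ▸ mem_map_of_mem _ hu)))
    refine ⟨cent1_le_norm_zpowers z (pcIn_le hx), fun v hv => ?_⟩
    by_cases vz : v ∈ zpowers z
    · exact mul_mem ((mem_normalizer_iff.1 (cent1_le_norm_zpowers z (pcIn_le hx)) v).1 vz) (inv_mem vz)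
    obtain ⟨m, hm, rfl⟩ := mov w hw v hv (fun e => k3 ((k1 w).2 e)) vz
    have m1 : m⁻¹ * x * m⁻¹⁻¹ ∈ pcIn 2 C1[z] :=
      (mem_normalizer_iff.1 (le_normalizer_pcIn le_normalizer (inv_mem hm)) x).1 hx
    have := k2 _ (mem_map_of_mem (x := ⟨_, pcIn_le m1⟩) π m1)
    rw [← mul_inv_eq_one, ← map_mul, ← map_mul, ← map_inv, ← map_mul, k1] at this
    have := (mem_normalizer_iff.1 (cent1_le_norm_zpowers z hm) _).1 this
    simpa [mul_assoc] using this) QO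
  rw [eQ]
  refine ⟨hL, ?_, UQ, fun v hv v1 => ?_, ?_⟩
  · have := hL.card_cent UQ zU
    rw [show Q ⊓ C[U] = U from le_antisymm (fun x hx => cU x fun u hu => (hx.2 u hu).symm) (le_inf UQ hU.cent), hc,
      ← pow_add, show n + 1 + (n + 1) = 2 * n + 1 + 1 by ring, pow_succ'] at this
    omega
  · by_cases e : z = v
    · exact ⟨1, by simp [e]⟩
    have o2 : orderOf (z * v) = 2 := orderOf_mul_of_commute (h2 z zU) (h2 v hv) (cm z zU v hv) e
    obtain ⟨m, -, -, -, k⟩ := tv _ (zpowers_le.2 (mul_mem zU hv)) _ (mem_zpowers _) z zU fun m =>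
      ((mem_zp o2).1 m).elim z1 fun e => v1 (by simpa using e)
    exact ⟨m, by rw [k, mul_self_cancel (h2 z zU)]⟩
  obtain ⟨W, hW⟩ := abelem_splits hU zz
  have WU : W ≤ U := hW.sup ▸ le_sup_right
  have zW : z ∉ W := fun m => z1 (mem_bot.1 (hW.inf ▸ (⟨mem_zpowers z, m⟩ : z ∈ zpowers z ⊓ W)))
  have dW : ∀ x ∈ U, x ∈ W ∨ x * z ∈ W := fun x hx => by
    obtain ⟨a, ha, b, hb, rfl⟩ := (mem_sup_normr (zz.trans (sub_abelian_norm ab WU))).1 (hW.sup ▸ hx)
    rcases (mem_zp o).1 ha with rfl | rfl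
    · exact Or.inl (by simpa using hb)
    · exact Or.inr (by rwa [(cm a zU b (WU hb)).eq, mul_self_cancel' (h2 a zU)])
  have fK : ∀ m ∈ M ⊓ C1[z], (∀ w ∈ W, m * w * m⁻¹ = w) → m = 1 := fun m hm k => hf m hm.1 fun x hx =>
    (dW x hx).elim (k x) fun e => cj_eq_iff_comm.2 (by
      simpa using (cj_eq_iff_comm.1 (k _ e)).mul_right (mem_centralizer_singleton.1 hm.2).inv_right)
  have nW : ∀ A ≤ W, ∀ a ∈ W, a ∉ A → a ∉ A ⊔ zpowers z := fun A hA a ha hn m => by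
    obtain ⟨x, hx, y, hy, rfl⟩ := (mem_sup_normr ((hA.trans WU).trans (sub_abelian_norm ab zz))).1 m
    rcases (mem_zp o).1 hy with rfl | rfl
    exacts [hn (by simpa using hx), zW ((mul_mem_cancel_left (hA hx)).1 ha)]
  refine ⟨M ⊓ C1[z] ⊓ N[W], inf_le_left.trans inf_le_right, eq_bot_iff.2 fun m hm => fK m hm.2.1 fun w hw =>
    (((mQ m).1 hm.1).2 w (WU hw)).resolve_right fun e =>
      zW ((mul_mem_cancel_left hw).1 (e ▸ (mem_normalizer_iff.1 hm.2.2 w).1 hw)),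
    le_antisymm (sup_le Qz (inf_le_left.trans inf_le_right)) fun x hx => ?_, ?_⟩
  · obtain ⟨u, hu, m, hm, rfl⟩ := dec x hx
    refine mul_mem (mem_sup_left (UQ hu)) ?_
    by_cases hmW : cj m W ≤ W
    · exact mem_sup_right ⟨hm, mem_norm_of_cj_le hmW⟩
    obtain ⟨a, ha, aW⟩ := not_forall₂.1 hmW
    have WU' : cj m W ≤ U := cj_le_of_norm (hM hm.1) WU
    obtain ⟨t, ht, k1, k2, k3⟩ := tv ((W ⊓ cj m W) ⊔ zpowers z) (sup_le (inf_le_left.trans WU) zz) z
      (mem_sup_right (mem_zpowers z)) a (WU' ha) fun h => by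
        obtain ⟨x, hx', y, hy, rfl⟩ := (mem_sup_normr ((inf_le_left.trans WU).trans (sub_abelian_norm ab zz))).1 h
        rcases (mem_zp o).1 hy with rfl | rfl
        · exact aW (by simpa using hx'.1)
        · have := mem_cj.1 ((mul_mem_cancel_left (mem_inf.1 hx').2).1 ha)
          rw [mul_assoc, ← (mem_centralizer_singleton.1 hm.2).eq] at this
          exact zW (by simpa using this)
    have tz : Commute t z := (k2 z (mem_sup_right (mem_zpowers z))).symm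
    have az := (dW a (WU' ha)).resolve_left aW
    have : t * m ∈ N[W] := mem_norm_of_cj_le (by
      rw [cj_mul]
      intro _ hy'
      obtain ⟨y, hy, rfl⟩ := mem_cj'.1 hy'
      by_cases yW : y ∈ W
      · rwa [cj_eq_iff_comm.2 (k2 y (mem_sup_left ⟨yW, hy⟩)).symm]
      · have m1 : y * a⁻¹ ∈ W := by
          simpa [mul_assoc] using mul_mem ((dW y (WU' hy)).resolve_left yW) (inv_mem az)
        rw [show t * y * t⁻¹ = t * (y * a⁻¹) * t⁻¹ * (t * a * t⁻¹) by group, k3,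
          cj_eq_iff_comm.2 (k2 _ (mem_sup_left ⟨m1, (cj m W).mul_mem hy ((cj m W).inv_mem ha)⟩)).symm]
        exact mul_mem m1 az)
    simpa using mul_mem (mem_sup_left (inv_mem ((mQ t).2 ⟨tz, k1⟩))) (mem_sup_right
      (show t * m ∈ M ⊓ C1[z] ⊓ N[W] from ⟨mul_mem ⟨ht, mem_centralizer_singleton.2 tz⟩ hm, this⟩))
  · have cW : #W = 2 ^ n := by
      have := card_sup_TI (Or.inl (zz.trans (sub_abelian_norm ab WU))) hW.inf
      rw [hW.sup, hc, Nat.card_zpowers, o, pow_succ'] at this; omega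
    obtain ⟨e⟩ := aut_GL (abelemS WU hU) cW
    let f : ↥(M ⊓ C1[z] ⊓ N[W]) →* MulAut W := (conjAut W).comp (inclusion inf_le_right)
    refine ⟨(MulEquiv.ofBijective f ⟨(injective_iff_map_eq_one f).2 fun m hm => Subtype.ext (fK m m.2.1 fun w hw =>
      congrArg (fun φ : MulAut W => (φ ⟨w, hw⟩).1) hm), fun φ => ?_⟩).trans e⟩
    obtain ⟨g, hg, k⟩ := aut_of_transv (L := M ⊓ C1[z] ⊓ N[W]) (fun u hu => h2 u (WU hu)) inf_le_right
      (fun A hA c hc a ha hn => by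
        obtain ⟨m, hm, k1, k2, k3⟩ := tv (A ⊔ zpowers z) (sup_le (hA.trans WU) zz) c (mem_sup_left hc) a (WU ha)
          (nW A hA a ha hn)
        refine ⟨m, ⟨⟨hm, mem_centralizer_singleton.2 (k2 z (mem_sup_right (mem_zpowers z))).symm⟩,
          mem_norm_of_cj_le fun _ hy' => ?_⟩, fun x hx => k2 x (mem_sup_left hx), k3⟩
        obtain ⟨y, hy, rfl⟩ := mem_cj'.1 hy'
        rcases k1 y (WU hy) with e | e <;> rw [e]
        exacts [hy, mul_mem hy (hA hc)]) φ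
    exact ⟨⟨g, hg⟩, MulEquiv.ext fun x => Subtype.ext (k x)⟩

end Cfsg.Agent.LES
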