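import Cfsg.Agent.LES.Struct

/-! Images of subgroups of extraspecial groups in sections: `ES.image`, `LE.large_image`, `swap_conj`. -/

set_option autoImplicit false
set_option linter.unusedSectionVars false
set_option linter.unusedVariables false

namespace Cfsg.Agent.LES

open Subgroup Cfsg.Agent.BG Cfsg.Agent.Invol
open scoped _root_.Classical

variable {G : Type*} [Group G] [Finite G] {Q D M : Subgroup G} {z s : G} {X : Type*} [Group X] [Finite X]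

theorem ES.comm_image (h : ES Q z) (π : M →* X) {zM : z ∈ M} (z1 : π ⟨z, zM⟩ ≠ 1) {x y : M} (hx : x.1 ∈ Q)
    (hy : y.1 ∈ Q) : Commute (π x) (π y) ↔ Commute x.1 y.1 := by
  refine ⟨fun c => ?_, fun c => (show Commute x y from Subtype.ext c).map π⟩
  by_contra hn
  have e : x * y * x⁻¹ = y * ⟨z, zM⟩ := Subtype.ext (h.conj_of_not hx hy hn)
  have := congrArg π e
  rw [map_mul, map_mul, map_inv, cj_eq_iff_comm.2 c, map_mul] at this
  exact z1 (by simpa using this.symm)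

theorem ES.image (h : ES Q z) (π : M →* X) (hD : D ≤ Q) (hM : D ≤ M) (zD : z ∈ D) (z1 : π ⟨z, hM zD⟩ ≠ 1)
    (hc : ∀ x : M, x.1 ∈ D → (∀ y ∈ D, Commute x.1 y) → π x = 1 ∨ π x = π ⟨z, hM zD⟩)
    (hn : ∃ x ∈ D, ∃ y ∈ D, ¬ Commute x y) : ES ((D.subgroupOf M).map π) (π ⟨z, hM zD⟩) where
  z2 := orderOf_two_iff.2 ⟨by rw [← map_mul, ← map_one π]; exact congrArg π (Subtype.ext h.zz), z1⟩
  zQ := mem_map_of_mem _ zD
  zc := by rintro _ ⟨y, hy, rfl⟩; exact (h.comm_image π z1 (hD hy) h.zQ).2 (h.zc _ (hD hy))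
  cen := by
    rintro _ ⟨x, hx, rfl⟩ k
    exact hc x hx fun y hy => (h.comm_image π z1 (y := ⟨y, hM hy⟩) (hD hx) (hD hy)).1 (k _ (mem_map_of_mem _ hy))
  comm := by
    rintro _ ⟨x, hx, rfl⟩ _ ⟨y, hy, rfl⟩
    simp only [← map_inv, ← map_mul]
    exact (h.comm _ (hD hx) _ (hD hy)).imp (fun e => congrArg π (Subtype.ext e)) fun e => congrArg π (Subtype.ext e)
  sq := by
    rintro _ ⟨x, hx, rfl⟩
    rw [← map_mul, ← map_one π]
    exact (h.sq _ (hD hx)).imp (fun e => congrArg π (Subtype.ext e)) fun e => congrArg π (Subtype.ext e)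
  nab := by
    obtain ⟨x, hx, y, hy, k⟩ := hn
    exact ⟨_, mem_map_of_mem (x := ⟨x, hM hx⟩) _ hx, _, mem_map_of_mem (x := ⟨y, hM hy⟩) _ hy,
      fun c => k ((h.comm_image π z1 (hD hx) (hD hy)).1 c)⟩

theorem LE.large_image (h : ES Q z) (π : M →* X) (hD : D ≤ Q) (hM : D ≤ M) (zD : z ∈ D)
    (k : LE ((D.subgroupOf M).map π) (π ⟨z, hM zD⟩)) (sD : s ∈ D) (hne : π ⟨s, hM sD⟩ ≠ π ⟨z, hM zD⟩) {x a b : G}
    (hx : x ∈ M) (e : x * s * x⁻¹ = z) (ha : a ∈ D) (hb : b ∈ D) (as : Commute a s) (bs : Commute b s)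
    (ab : ¬ Commute a b) : IsLargeExtraspecial ((D.subgroupOf M).map π) := by
  have e' : (π ⟨x, hx⟩)⁻¹ * π ⟨z, hM zD⟩ * (π ⟨x, hx⟩)⁻¹⁻¹ = π ⟨s, hM sD⟩ := by
    rw [inv_inv, ← map_inv, ← map_mul, ← map_mul]
    exact congrArg π (Subtype.ext (by simp [← e, mul_assoc]))
  have m : ∀ y (hy : y ∈ D), π ⟨y, hM hy⟩ ∈ (D.subgroupOf M).map π := fun y hy => mem_map_of_mem _ hy
  exact k.large_of_conj (e' ▸ m s sD) (e' ▸ hne) (k.sym' (e' ▸ m s sD) (m a ha) (m b hb)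
    (e' ▸ (h.comm_image π k.z1 (hD ha) (hD sD)).2 as) (e' ▸ (h.comm_image π k.z1 (hD hb) (hD sD)).2 bs)
    fun c => ab ((h.comm_image π k.z1 (hD ha) (hD hb)).1 c))

theorem swap_conj {r y : G} (s2 : s * s = 1) (e1 : r * s * r⁻¹ = s * z) (e2 : y * z * y⁻¹ = z * s) (c : Commute y s)
    (c' : Commute s z) : y * r * s * (y * r)⁻¹ = z := by
  calc y * r * s * (y * r)⁻¹ = y * (r * s * r⁻¹) * y⁻¹ := by group
    _ = y * s * y⁻¹ * (y * z * y⁻¹) := by rw [e1]; group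
    _ = z := by rw [e2, cj_eq_iff_comm.2 c, ← c'.eq, mul_self_cancel s2]

end Cfsg.Agent.LES
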